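import Cfsg.Agent.Lib.Cert.Mod
import Cfsg.Agent.Lib.PermCert.PL

set_option autoImplicit false
set_option maxRecDepth 100000

namespace Cfsg.Agent.Ct.HSp

open Cfsg.Agent.PC

open Cfsg.Agent.Fi Cfsg.Agent.Ct
namespace L1
def t0x : TN := (TN.leaf (nat_lit 0x84eca21))
def t1x : TN := (TN.leaf (nat_lit 0x2a511a2))
def tt : TN := (TN.node (TN.node (TN.node (TN.node t0x (TN.leaf (nat_lit 0))) (TN.node (TN.leaf (nat_lit 0)) (TN.leaf (nat_lit 0)))) (TN.node (TN.node (TN.leaf (nat_lit 0)) (TN.leaf (nat_lit 0))) (TN.node (TN.leaf (nat_lit 0)) (TN.leaf (nat_lit 0))))) (TN.node (TN.node (TN.node t1x (TN.leaf (nat_lit 0))) (TN.node (TN.leaf (nat_lit 0)) (TN.leaf (nat_lit 0)))) (TN.node (TN.node (TN.leaf (nat_lit 0)) (TN.leaf (nat_lit 0))) (TN.node (TN.leaf (nat_lit 0)) (TN.leaf (nat_lit 0))))))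
noncomputable def T (j c : ℕ) : ℕ := getL tt (nat_lit 7) (nat_lit 3) j c
noncomputable def E (j c : ℕ) : ℕ := getL tt (nat_lit 7) (nat_lit 127) j c
theorem T_eq (j c : ℕ) : T j c = E j c % 4 :=
  getL_mod (a := 2) (b := 7) _ _ (by norm_num) (by norm_num) (by norm_num) (by norm_num) j c
def rels : List (List ℕ) := [[nat_lit 0, nat_lit 1, nat_lit 0, nat_lit 1]]
def X_t : TN := (TN.leaf (nat_lit 0))
noncomputable def X (i : ℕ) : ℕ := get9 X_t (nat_lit 1) (nat_lit 1) i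
def Jp_t : TN := (TN.leaf (nat_lit 0))
noncomputable def Jp (i : ℕ) : ℕ := get9 Jp_t (nat_lit 1) (nat_lit 1) i
def J_t : TN := (TN.leaf (nat_lit 0))
noncomputable def J (k : ℕ) : ℕ := getV J_t Jp k
def Pa_t : TN := (TN.leaf (nat_lit 0x91414000))
noncomputable def Pa (i : ℕ) : ℕ := get9 Pa_t (nat_lit 8) (nat_lit 255) i
def W_t : TL := (TL.leaf [nat_lit 1, nat_lit 0, nat_lit 1, nat_lit 0, nat_lit 1])
noncomputable def W (i : ℕ) : List ℕ := TL.get W_t i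
def WA_t : TL := (TL.leaf [nat_lit 0])
noncomputable def WA (i : ℕ) : List ℕ := TL.get WA_t i
noncomputable def row : ℕ → ℕ := hRow (nat_lit 3) (nat_lit 2) (nat_lit 0) (nat_lit 4) (nat_lit 4) (nat_lit 16) (nat_lit 64) (nat_lit 64) (nat_lit 0) E X Pa (fun j => j) (wfun (nat_lit 1) W_t)
noncomputable def aux : ℕ → ℕ := hAux (nat_lit 4) (nat_lit 2) (nat_lit 4) (nat_lit 16) (nat_lit 64) (nat_lit 2) (nat_lit 2) (nat_lit 64) (nat_lit 0) E X J Pa (fun j => j) WA_t.get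
theorem r0 : Nat.beq (rng row (nat_lit 0) (nat_lit 4)) (nat_lit 0) = true := by decide +kernel
theorem rows : ∀ i < 4, row i = 0 := by
  have h := zero_lt_zero row
  have h := zero_lt_add (a := (nat_lit 0)) (n := (nat_lit 4)) (b := (nat_lit 4)) h r0 rfl
  exact h
theorem auxs : ∀ i < 0, aux i = 0 := by
  have h := zero_lt_zero aux
  exact h
theorem closes.{u} : ClosesT.{u} (fun j => j) rels 2 0 4 T :=
  hc_closes (N1 := (nat_lit 3)) rfl T_eq (by decide +kernel) rows auxs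
theorem T_inv : ∀ c < 4, ∀ j < 2, T j c < 4 ∧ T j (T j c) = c := 
  hc_inv (inv := (fun j => j)) (N1 := (nat_lit 3)) rfl T_eq rows
end L1

namespace L2
def t0x : TN := (TN.leaf (nat_lit 0x15fb3ec0a810cb08b32b22a82503c0364844501110))
def t1x : TN := (TN.leaf (nat_lit 0x117aae91922e459061154168290411222281101910))
def t2x : TN := (TN.leaf (nat_lit 0x46c8cc6c41d02106b3a68e4508920666681488201))
def tt : TN := (TN.node (TN.node (TN.node (TN.node t0x (TN.leaf (nat_lit 0))) (TN.node (TN.leaf (nat_lit 0)) (TN.leaf (nat_lit 0)))) (TN.node (TN.node t2x (TN.leaf (nat_lit 0))) (TN.node (TN.leaf (nat_lit 0)) (TN.leaf (nat_lit 0))))) (TN.node (TN.node (TN.node t1x (TN.leaf (nat_lit 0))) (TN.node (TN.leaf (nat_lit 0)) (TN.leaf (nat_lit 0)))) (TN.node (TN.node (TN.leaf (nat_lit 0)) (TN.leaf (nat_lit 0))) (TN.node (TN.leaf (nat_lit 0)) (TN.leaf (nat_lit 0))))))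
noncomputable def T (j c : ℕ) : ℕ := getL tt (nat_lit 11) (nat_lit 15) j c
noncomputable def E (j c : ℕ) : ℕ := getL tt (nat_lit 11) (nat_lit 2047) j c
theorem T_eq (j c : ℕ) : T j c = E j c % 16 :=
  getL_mod (a := 4) (b := 11) _ _ (by norm_num) (by norm_num) (by norm_num) (by norm_num) j c
def rels : List (List ℕ) := [[nat_lit 0, nat_lit 1, nat_lit 0, nat_lit 1], [nat_lit 0, nat_lit 2, nat_lit 0, nat_lit 2, nat_lit 0, nat_lit 2, nat_lit 0, nat_lit 2, nat_lit 0, nat_lit 2], [nat_lit 1, nat_lit 2, nat_lit 1, nat_lit 2, nat_lit 1, nat_lit 2], [nat_lit 0, nat_lit 1, nat_lit 2, nat_lit 0, nat_lit 1, nat_lit 2, nat_lit 0, nat_lit 1, nat_lit 2, nat_lit 0, nat_lit 1, nat_lit 2, nat_lit 0, nat_lit 1, nat_lit 2]]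
def X_t : TN := (TN.leaf (nat_lit 0))
noncomputable def X (i : ℕ) : ℕ := get9 X_t (nat_lit 1) (nat_lit 1) i
def Jp_t : TN := (TN.leaf (nat_lit 0))
noncomputable def Jp (i : ℕ) : ℕ := get9 Jp_t (nat_lit 1) (nat_lit 1) i
def J_t : TN := (TN.leaf (nat_lit 0))
noncomputable def J (k : ℕ) : ℕ := getV J_t Jp k
def Pa_t : TN := (TN.leaf (nat_lit 0x1acb49691ae3586b04518a11099132142284081000))
noncomputable def Pa (i : ℕ) : ℕ := get9 Pa_t (nat_lit 11) (nat_lit 2047) i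
def W_t : TL := (TL.node (TL.node (TL.node (TL.leaf [nat_lit 1, nat_lit 0, nat_lit 1, nat_lit 0, nat_lit 1]) (TL.leaf [nat_lit 6146, nat_lit 2, nat_lit 1, nat_lit 0, nat_lit 2, nat_lit 1, nat_lit 0, nat_lit 2, nat_lit 1, nat_lit 0, nat_lit 2, nat_lit 1, nat_lit 0, nat_lit 2, nat_lit 1, nat_lit 0])) (TL.leaf [nat_lit 2051, nat_lit 2, nat_lit 0, nat_lit 2, nat_lit 0, nat_lit 2, nat_lit 0, nat_lit 2, nat_lit 0, nat_lit 2, nat_lit 0])) (TL.node (TL.node (TL.leaf [nat_lit 4099, nat_lit 2, nat_lit 1, nat_lit 2, nat_lit 1, nat_lit 2, nat_lit 1]) (TL.leaf [nat_lit 6145, nat_lit 0, nat_lit 1, nat_lit 2, nat_lit 0, nat_lit 1, nat_lit 2, nat_lit 0, nat_lit 1, nat_lit 2, nat_lit 0, nat_lit 1, nat_lit 2, nat_lit 0, nat_lit 1, nat_lit 2])) (TL.leaf [nat_lit 4097, nat_lit 1, nat_lit 2, nat_lit 1, nat_lit 2, nat_lit 1, nat_lit 2])))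
noncomputable def W (i : ℕ) : List ℕ := TL.get W_t i
def WA_t : TL := (TL.leaf [nat_lit 0])
noncomputable def WA (i : ℕ) : List ℕ := TL.get WA_t i
noncomputable def row : ℕ → ℕ := hRow (nat_lit 14) (nat_lit 3) (nat_lit 2) (nat_lit 16) (nat_lit 16) (nat_lit 256) (nat_lit 256) (nat_lit 256) (nat_lit 0) E X Pa (fun j => j) (wfun (nat_lit 6) W_t)
noncomputable def aux : ℕ → ℕ := hAux (nat_lit 15) (nat_lit 3) (nat_lit 16) (nat_lit 256) (nat_lit 256) (nat_lit 2) (nat_lit 2) (nat_lit 256) (nat_lit 0) E X J Pa (fun j => j) WA_t.get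
theorem r0 : Nat.beq (rng row (nat_lit 0) (nat_lit 15)) (nat_lit 0) = true := by decide +kernel
theorem rows : ∀ i < 15, row i = 0 := by
  have h := zero_lt_zero row
  have h := zero_lt_add (a := (nat_lit 0)) (n := (nat_lit 15)) (b := (nat_lit 15)) h r0 rfl
  exact h
theorem auxs : ∀ i < 0, aux i = 0 := by
  have h := zero_lt_zero aux
  exact h
theorem closes.{u} : ClosesT.{u} (fun j => j) rels 3 2 15 T :=
  hc_closes (N1 := (nat_lit 14)) rfl T_eq (by decide +kernel) rows auxs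
theorem T_inv : ∀ c < 15, ∀ j < 3, T j c < 15 ∧ T j (T j c) = c := 
  hc_inv (inv := (fun j => j)) (N1 := (nat_lit 14)) rfl T_eq rows
end L2

namespace L3
def t0x : TN := (TN.leaf (nat_lit 0xd17a0331fa64e10bd8268542162059021008645109100cc42210))
def t1x : TN := (TN.leaf (nat_lit 0xb6f886edba217207502042d23a20610244262122029010c62210))
def t2x : TN := (TN.leaf (nat_lit 0x10dd3b84348092079034cb887810a884c80e8542030844804210))
def t3x : TN := (TN.leaf (nat_lit 0x906c83219f0be803885a4110a974d9029c06a02642a190420401))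
def tt : TN := (TN.node (TN.node (TN.node (TN.node t0x (TN.leaf (nat_lit 0))) (TN.node (TN.leaf (nat_lit 0)) (TN.leaf (nat_lit 0)))) (TN.node (TN.node t2x (TN.leaf (nat_lit 0))) (TN.node (TN.leaf (nat_lit 0)) (TN.leaf (nat_lit 0))))) (TN.node (TN.node (TN.node t1x (TN.leaf (nat_lit 0))) (TN.node (TN.leaf (nat_lit 0)) (TN.leaf (nat_lit 0)))) (TN.node (TN.node t3x (TN.leaf (nat_lit 0))) (TN.node (TN.leaf (nat_lit 0)) (TN.leaf (nat_lit 0))))))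
noncomputable def T (j c : ℕ) : ℕ := getL tt (nat_lit 13) (nat_lit 15) j c
noncomputable def E (j c : ℕ) : ℕ := getL tt (nat_lit 13) (nat_lit 8191) j c
theorem T_eq (j c : ℕ) : T j c = E j c % 16 :=
  getL_mod (a := 4) (b := 13) _ _ (by norm_num) (by norm_num) (by norm_num) (by norm_num) j c
def rels : List (List ℕ) := [[nat_lit 0, nat_lit 1, nat_lit 0, nat_lit 1], [nat_lit 0, nat_lit 2, nat_lit 0, nat_lit 2, nat_lit 0, nat_lit 2, nat_lit 0, nat_lit 2, nat_lit 0, nat_lit 2], [nat_lit 1, nat_lit 2, nat_lit 1, nat_lit 2, nat_lit 1, nat_lit 2], [nat_lit 0, nat_lit 1, nat_lit 2, nat_lit 0, nat_lit 1, nat_lit 2, nat_lit 0, nat_lit 1, nat_lit 2, nat_lit 0, nat_lit 1, nat_lit 2, nat_lit 0, nat_lit 1, nat_lit 2], [nat_lit 0, nat_lit 3, nat_lit 0, nat_lit 3], [nat_lit 1, nat_lit 3, nat_lit 1, nat_lit 3], [nat_lit 2, nat_lit 3, nat_lit 2, nat_lit 3, nat_lit 2, nat_lit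 3, nat_lit 2, nat_lit 3], [nat_lit 0, nat_lit 1, nat_lit 3, nat_lit 0, nat_lit 1, nat_lit 3], [nat_lit 0, nat_lit 2, nat_lit 3, nat_lit 0, nat_lit 2, nat_lit 3, nat_lit 0, nat_lit 2, nat_lit 3, nat_lit 0, nat_lit 2, nat_lit 3, nat_lit 0, nat_lit 2, nat_lit 3], [nat_lit 1, nat_lit 2, nat_lit 3, nat_lit 1, nat_lit 2, nat_lit 3, nat_lit 1, nat_lit 2, nat_lit 3], [nat_lit 3, nat_lit 2, nat_lit 0, nat_lit 2, nat_lit 0, nat_lit 1, nat_lit 3, nat_lit 2, nat_lit 0, nat_lit 2, nat_lit 3, nat_lit 0, nat_lit 1, nat_lit 2, nat_lit 0, nat_lit 2, nat_lit 1, nat_lit 0]]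
def X_t : TN := (TN.leaf (nat_lit 0))
noncomputable def X (i : ℕ) : ℕ := get9 X_t (nat_lit 1) (nat_lit 1) i
def Jp_t : TN := (TN.leaf (nat_lit 0))
noncomputable def Jp (i : ℕ) : ℕ := get9 Jp_t (nat_lit 1) (nat_lit 1) i
def J_t : TN := (TN.leaf (nat_lit 0))
noncomputable def J (k : ℕ) : ℕ := getV J_t Jp k
def Pa_t : TN := (TN.leaf (nat_lit 0xf65ec751671ce158eb0d60aa50ca18b2164084881800))
noncomputable def Pa (i : ℕ) : ℕ := get9 Pa_t (nat_lit 11) (nat_lit 2047) i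
def W_t : TL := (TL.node (TL.node (TL.node (TL.node (TL.leaf [nat_lit 8193, nat_lit 0, nat_lit 3, nat_lit 0, nat_lit 3]) (TL.leaf [nat_lit 20493, nat_lit 3, nat_lit 2, nat_lit 0, nat_lit 2, nat_lit 3, nat_lit 0, nat_lit 1, nat_lit 2, nat_lit 0, nat_lit 2, nat_lit 1, nat_lit 0, nat_lit 3, nat_lit 2, nat_lit 0, nat_lit 2, nat_lit 0, nat_lit 1])) (TL.node (TL.leaf [nat_lit 18434, nat_lit 3, nat_lit 2, nat_lit 1, nat_lit 3, nat_lit 2, nat_lit 1, nat_lit 3, nat_lit 2, nat_lit 1]) (TL.leaf [nat_lit 12289, nat_lit 2, nat_lit 3, nat_lit 2, nat_lit 3, nat_lit 2, nat_lit 3, nat_lit 2, nat_lit 3]))) (TL.node (TL.node (TL.leaf [nat_lit 1, nat_lit 0, nat_lit 1, nat_lit 0, nat_lit 1]) (TL.leaf [nat_lit 12291, nat_lit 3, nat_lit 2, nat_lit 3, nat_lit 2, nat_lit 3, nat_lit 2, nat_lit 3, nat_lit 2])) (TL.leaf [nat_lit 14341, nat_lit 3, nat_lit 0, nat_lit 1, nat_lit 3, nat_lit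 0, nat_lit 1]))) (TL.node (TL.node (TL.node (TL.leaf [nat_lit 10241, nat_lit 1, nat_lit 3, nat_lit 1, nat_lit 3]) (TL.leaf [nat_lit 10243, nat_lit 3, nat_lit 1, nat_lit 3, nat_lit 1])) (TL.node (TL.leaf [nat_lit 2051, nat_lit 2, nat_lit 0, nat_lit 2, nat_lit 0, nat_lit 2, nat_lit 0, nat_lit 2, nat_lit 0, nat_lit 2, nat_lit 0]) (TL.leaf [nat_lit 6145, nat_lit 0, nat_lit 1, nat_lit 2, nat_lit 0, nat_lit 1, nat_lit 2, nat_lit 0, nat_lit 1, nat_lit 2, nat_lit 0, nat_lit 1, nat_lit 2, nat_lit 0, nat_lit 1, nat_lit 2]))) (TL.node (TL.node (TL.leaf [nat_lit 4099, nat_lit 2, nat_lit 1, nat_lit 2, nat_lit 1, nat_lit 2, nat_lit 1]) (TL.leaf [nat_lit 4097, nat_lit 1, nat_lit 2, nat_lit 1, nat_lit 2, nat_lit 1, nat_lit 2])) (TL.leaf [nat_lit 16386, nat_lit 3, nat_lit 2, nat_lit 0, nat_lit 3, nat_lit 2, nat_lit 0, nat_lit 3, nat_lit 2, nat_lit 0, nat_lit 3, nat_lit 2, nat_lit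 0, nat_lit 3, nat_lit 2, nat_lit 0]))))
noncomputable def W (i : ℕ) : List ℕ := TL.get W_t i
def WA_t : TL := (TL.leaf [nat_lit 0])
noncomputable def WA (i : ℕ) : List ℕ := TL.get WA_t i
noncomputable def row : ℕ → ℕ := hRow (nat_lit 15) (nat_lit 4) (nat_lit 3) (nat_lit 16) (nat_lit 32) (nat_lit 512) (nat_lit 256) (nat_lit 256) (nat_lit 0) E X Pa (fun j => j) (wfun (nat_lit 14) W_t)
noncomputable def aux : ℕ → ℕ := hAux (nat_lit 16) (nat_lit 4) (nat_lit 16) (nat_lit 512) (nat_lit 256) (nat_lit 2) (nat_lit 2) (nat_lit 256) (nat_lit 0) E X J Pa (fun j => j) WA_t.get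
theorem r0 : Nat.beq (rng row (nat_lit 0) (nat_lit 16)) (nat_lit 0) = true := by decide +kernel
theorem rows : ∀ i < 16, row i = 0 := by
  have h := zero_lt_zero row
  have h := zero_lt_add (a := (nat_lit 0)) (n := (nat_lit 16)) (b := (nat_lit 16)) h r0 rfl
  exact h
theorem auxs : ∀ i < 0, aux i = 0 := by
  have h := zero_lt_zero aux
  exact h
theorem closes.{u} : ClosesT.{u} (fun j => j) rels 4 3 16 T :=
  hc_closes (N1 := (nat_lit 15)) rfl T_eq (by decide +kernel) rows auxs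
theorem T_inv : ∀ c < 16, ∀ j < 4, T j c < 16 ∧ T j (T j c) = c := 
  hc_inv (inv := (fun j => j)) (N1 := (nat_lit 15)) rfl T_eq rows
end L3

namespace L4
def t0x : TN := (TN.leaf (nat_lit 0x4b747818402c80515b02b5e5020b26b87318e43144212106e200a400c6338809188c10844010420))
def t1x : TN := (TN.leaf (nat_lit 0x15942016f030214a9d0239e401c8c6b892192610904089005191c1088644080a084220184018420))
def t2x : TN := (TN.leaf (nat_lit 0x42e3817103cd38b409826420502130d0c346660218a8156a240e203480184211a8a34884020420))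
def t3x : TN := (TN.leaf (nat_lit 0x1eb4085410a5c0611f053de1098d46b7110848204c409042308442038210880b1010201c4028420))
def t4x : TN := (TN.leaf (nat_lit 0x47549014f02d6048427084c92b8f64042471e51ccd578a00d1020203c672880c198632882100801))
def tt : TN := (TN.node (TN.node (TN.node (TN.node t0x (TN.leaf (nat_lit 0))) (TN.node t4x (TN.leaf (nat_lit 0)))) (TN.node (TN.node t2x (TN.leaf (nat_lit 0))) (TN.node (TN.leaf (nat_lit 0)) (TN.leaf (nat_lit 0))))) (TN.node (TN.node (TN.node t1x (TN.leaf (nat_lit 0))) (TN.node (TN.leaf (nat_lit 0)) (TN.leaf (nat_lit 0)))) (TN.node (TN.node t3x (TN.leaf (nat_lit 0))) (TN.node (TN.leaf (nat_lit 0)) (TN.leaf (nat_lit 0))))))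
noncomputable def T (j c : ℕ) : ℕ := getL tt (nat_lit 15) (nat_lit 31) j c
noncomputable def E (j c : ℕ) : ℕ := getL tt (nat_lit 15) (nat_lit 32767) j c
theorem T_eq (j c : ℕ) : T j c = E j c % 32 :=
  getL_mod (a := 5) (b := 15) _ _ (by norm_num) (by norm_num) (by norm_num) (by norm_num) j c
def rels : List (List ℕ) := [[nat_lit 0, nat_lit 1, nat_lit 0, nat_lit 1], [nat_lit 0, nat_lit 2, nat_lit 0, nat_lit 2, nat_lit 0, nat_lit 2, nat_lit 0, nat_lit 2, nat_lit 0, nat_lit 2], [nat_lit 1, nat_lit 2, nat_lit 1, nat_lit 2, nat_lit 1, nat_lit 2], [nat_lit 0, nat_lit 1, nat_lit 2, nat_lit 0, nat_lit 1, nat_lit 2, nat_lit 0, nat_lit 1, nat_lit 2, nat_lit 0, nat_lit 1, nat_lit 2, nat_lit 0, nat_lit 1, nat_lit 2], [nat_lit 0, nat_lit 3, nat_lit 0, nat_lit 3], [nat_lit 1, nat_lit 3, nat_lit 1, nat_lit 3], [nat_lit 2, nat_lit 3, nat_lit 2, nat_lit 3, nat_lit 2, nat_lit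 3, nat_lit 2, nat_lit 3], [nat_lit 0, nat_lit 1, nat_lit 3, nat_lit 0, nat_lit 1, nat_lit 3], [nat_lit 0, nat_lit 2, nat_lit 3, nat_lit 0, nat_lit 2, nat_lit 3, nat_lit 0, nat_lit 2, nat_lit 3, nat_lit 0, nat_lit 2, nat_lit 3, nat_lit 0, nat_lit 2, nat_lit 3], [nat_lit 1, nat_lit 2, nat_lit 3, nat_lit 1, nat_lit 2, nat_lit 3, nat_lit 1, nat_lit 2, nat_lit 3], [nat_lit 3, nat_lit 2, nat_lit 0, nat_lit 2, nat_lit 0, nat_lit 1, nat_lit 3, nat_lit 2, nat_lit 0, nat_lit 2, nat_lit 3, nat_lit 0, nat_lit 1, nat_lit 2, nat_lit 0, nat_lit 2, nat_lit 1, nat_lit 0], [nat_lit 0, nat_lit 4, nat_lit 0, nat_lit 4, nat_lit 0, nat_lit 4], [nat_lit 1, nat_lit 4, nat_lit 1, nat_lit 4, nat_lit 1, nat_lit 4], [nat_lit 2, nat_lit 4, nat_lit 2, nat_lit 4, nat_lit 2, nat_lit 4, nat_lit 2, nat_lit 4], [nat_lit 3, nat_lit 4, nat_lit 3, nat_lit 4, nat_lit 3, nat_lit 4], [nat_lit 0, nat_lit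 1, nat_lit 4, nat_lit 0, nat_lit 1, nat_lit 4, nat_lit 0, nat_lit 1, nat_lit 4, nat_lit 0, nat_lit 1, nat_lit 4], [nat_lit 0, nat_lit 2, nat_lit 4, nat_lit 0, nat_lit 2, nat_lit 4, nat_lit 0, nat_lit 2, nat_lit 4, nat_lit 0, nat_lit 2, nat_lit 4, nat_lit 0, nat_lit 2, nat_lit 4, nat_lit 0, nat_lit 2, nat_lit 4, nat_lit 0, nat_lit 2, nat_lit 4], [nat_lit 0, nat_lit 3, nat_lit 4, nat_lit 0, nat_lit 3, nat_lit 4, nat_lit 0, nat_lit 3, nat_lit 4, nat_lit 0, nat_lit 3, nat_lit 4], [nat_lit 1, nat_lit 2, nat_lit 4, nat_lit 1, nat_lit 2, nat_lit 4, nat_lit 1, nat_lit 2, nat_lit 4, nat_lit 1, nat_lit 2, nat_lit 4, nat_lit 1, nat_lit 2, nat_lit 4], [nat_lit 1, nat_lit 3, nat_lit 4, nat_lit 1, nat_lit 3, nat_lit 4, nat_lit 1, nat_lit 3, nat_lit 4, nat_lit 1, nat_lit 3, nat_lit 4], [nat_lit 2, nat_lit 3, nat_lit 4, nat_lit 2, nat_lit 3, nat_lit 4, nat_lit 2, nat_lit 3,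 nat_lit 4, nat_lit 2, nat_lit 3, nat_lit 4, nat_lit 2, nat_lit 3, nat_lit 4, nat_lit 2, nat_lit 3, nat_lit 4, nat_lit 2, nat_lit 3, nat_lit 4], [nat_lit 4, nat_lit 0, nat_lit 2, nat_lit 0, nat_lit 4, nat_lit 0, nat_lit 2, nat_lit 3, nat_lit 2, nat_lit 0, nat_lit 3], [nat_lit 4, nat_lit 1, nat_lit 2, nat_lit 3, nat_lit 4, nat_lit 3, nat_lit 2, nat_lit 1, nat_lit 3, nat_lit 0, nat_lit 2, nat_lit 0, nat_lit 2, nat_lit 1]]
def X_t : TN := (TN.leaf (nat_lit 0))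
noncomputable def X (i : ℕ) : ℕ := get9 X_t (nat_lit 1) (nat_lit 1) i
def Jp_t : TN := (TN.leaf (nat_lit 0))
noncomputable def Jp (i : ℕ) : ℕ := get9 Jp_t (nat_lit 1) (nat_lit 1) i
def J_t : TN := (TN.leaf (nat_lit 0))
noncomputable def J (k : ℕ) : ℕ := getV J_t Jp k
def Pa_t : TN := (TN.leaf (nat_lit 0xae28a3893891874864863862644643641640633623621413412411410204000))
noncomputable def Pa (i : ℕ) : ℕ := get9 Pa_t (nat_lit 12) (nat_lit 4095) i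
def W_t : TL := (TL.node (TL.node (TL.node (TL.node (TL.node (TL.leaf [nat_lit 1, nat_lit 0, nat_lit 1, nat_lit 0, nat_lit 1]) (TL.leaf [nat_lit 2049, nat_lit 0, nat_lit 2, nat_lit 0, nat_lit 2, nat_lit 0, nat_lit 2, nat_lit 0, nat_lit 2, nat_lit 0, nat_lit 2])) (TL.node (TL.leaf [nat_lit 45080, nat_lit 2, nat_lit 1, nat_lit 4, nat_lit 1, nat_lit 2, nat_lit 0, nat_lit 2, nat_lit 0, nat_lit 3, nat_lit 1, nat_lit 2, nat_lit 3, nat_lit 4, nat_lit 3]) (TL.leaf [nat_lit 45057, nat_lit 4, nat_lit 1, nat_lit 2, nat_lit 3, nat_lit 4, nat_lit 3, nat_lit 2, nat_lit 1, nat_lit 3, nat_lit 0, nat_lit 2, nat_lit 0, nat_lit 2, nat_lit 1]))) (TL.node (TL.node (TL.leaf [nat_lit 24579, nat_lit 4, nat_lit 1, nat_lit 4, nat_lit 1, nat_lit 4, nat_lit 1]) (TL.leaf [nat_lit 43009, nat_lit 4, nat_lit 0, nat_lit 2, nat_lit 0, nat_lit 4, nat_lit 0, nat_lit 2, nat_lit 3, nat_lit 2, nat_lit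 0, nat_lit 3])) (TL.leaf [nat_lit 24577, nat_lit 1, nat_lit 4, nat_lit 1, nat_lit 4, nat_lit 1, nat_lit 4]))) (TL.node (TL.node (TL.node (TL.leaf [nat_lit 10241, nat_lit 1, nat_lit 3, nat_lit 1, nat_lit 3]) (TL.leaf [nat_lit 20493, nat_lit 3, nat_lit 2, nat_lit 0, nat_lit 2, nat_lit 3, nat_lit 0, nat_lit 1, nat_lit 2, nat_lit 0, nat_lit 2, nat_lit 1, nat_lit 0, nat_lit 3, nat_lit 2, nat_lit 0, nat_lit 2, nat_lit 0, nat_lit 1])) (TL.leaf [nat_lit 4097, nat_lit 1, nat_lit 2, nat_lit 1, nat_lit 2, nat_lit 1, nat_lit 2])) (TL.node (TL.node (TL.leaf [nat_lit 26625, nat_lit 2, nat_lit 4, nat_lit 2, nat_lit 4, nat_lit 2, nat_lit 4, nat_lit 2, nat_lit 4]) (TL.leaf [nat_lit 43029, nat_lit 3, nat_lit 4, nat_lit 0, nat_lit 2, nat_lit 0, nat_lit 4, nat_lit 0, nat_lit 2, nat_lit 3, nat_lit 2, nat_lit 0])) (TL.leaf [nat_lit 43014, nat_lit 2, nat_lit 3, nat_lit 2, nat_lit 0,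 nat_lit 4, nat_lit 0, nat_lit 2, nat_lit 0, nat_lit 4, nat_lit 3, nat_lit 0])))) (TL.node (TL.node (TL.node (TL.node (TL.leaf [nat_lit 8193, nat_lit 0, nat_lit 3, nat_lit 0, nat_lit 3]) (TL.leaf [nat_lit 6146, nat_lit 2, nat_lit 1, nat_lit 0, nat_lit 2, nat_lit 1, nat_lit 0, nat_lit 2, nat_lit 1, nat_lit 0, nat_lit 2, nat_lit 1, nat_lit 0, nat_lit 2, nat_lit 1, nat_lit 0])) (TL.node (TL.leaf [nat_lit 4099, nat_lit 2, nat_lit 1, nat_lit 2, nat_lit 1, nat_lit 2, nat_lit 1]) (TL.leaf [nat_lit 45075, nat_lit 0, nat_lit 2, nat_lit 0, nat_lit 2, nat_lit 1, nat_lit 4, nat_lit 1, nat_lit 2, nat_lit 3, nat_lit 4, nat_lit 3, nat_lit 2, nat_lit 1, nat_lit 3]))) (TL.node (TL.node (TL.leaf [nat_lit 28675, nat_lit 4, nat_lit 3, nat_lit 4, nat_lit 3, nat_lit 4, nat_lit 3]) (TL.leaf [nat_lit 43017, nat_lit 4, nat_lit 0, nat_lit 2, nat_lit 3, nat_lit 2, nat_lit 0, nat_lit 3,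 nat_lit 4, nat_lit 0, nat_lit 2, nat_lit 0])) (TL.leaf [nat_lit 28673, nat_lit 3, nat_lit 4, nat_lit 3, nat_lit 4, nat_lit 3, nat_lit 4]))) (TL.node (TL.node (TL.node (TL.leaf [nat_lit 22531, nat_lit 4, nat_lit 0, nat_lit 4, nat_lit 0, nat_lit 4, nat_lit 0]) (TL.leaf [nat_lit 12291, nat_lit 3, nat_lit 2, nat_lit 3, nat_lit 2, nat_lit 3, nat_lit 2, nat_lit 3, nat_lit 2])) (TL.leaf [nat_lit 22529, nat_lit 0, nat_lit 4, nat_lit 0, nat_lit 4, nat_lit 0, nat_lit 4])) (TL.node (TL.node (TL.leaf [nat_lit 43013, nat_lit 2, nat_lit 0, nat_lit 4, nat_lit 0, nat_lit 2, nat_lit 3, nat_lit 2, nat_lit 0, nat_lit 3, nat_lit 4, nat_lit 0]) (TL.leaf [nat_lit 26627, nat_lit 4, nat_lit 2, nat_lit 4, nat_lit 2, nat_lit 4, nat_lit 2, nat_lit 4, nat_lit 2])) (TL.leaf [nat_lit 12289, nat_lit 2, nat_lit 3, nat_lit 2, nat_lit 3, nat_lit 2, nat_lit 3, nat_lit 2, nat_lit 3])))))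
noncomputable def W (i : ℕ) : List ℕ := TL.get W_t i
def WA_t : TL := (TL.leaf [nat_lit 0])
noncomputable def WA (i : ℕ) : List ℕ := TL.get WA_t i
noncomputable def row : ℕ → ℕ := hRow (nat_lit 20) (nat_lit 5) (nat_lit 4) (nat_lit 32) (nat_lit 32) (nat_lit 1024) (nat_lit 512) (nat_lit 512) (nat_lit 0) E X Pa (fun j => j) (wfun (nat_lit 26) W_t)
noncomputable def aux : ℕ → ℕ := hAux (nat_lit 21) (nat_lit 5) (nat_lit 32) (nat_lit 1024) (nat_lit 512) (nat_lit 2) (nat_lit 2) (nat_lit 512) (nat_lit 0) E X J Pa (fun j => j) WA_t.get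
theorem r0 : Nat.beq (rng row (nat_lit 0) (nat_lit 21)) (nat_lit 0) = true := by decide +kernel
theorem rows : ∀ i < 21, row i = 0 := by
  have h := zero_lt_zero row
  have h := zero_lt_add (a := (nat_lit 0)) (n := (nat_lit 21)) (b := (nat_lit 21)) h r0 rfl
  exact h
theorem auxs : ∀ i < 0, aux i = 0 := by
  have h := zero_lt_zero aux
  exact h
theorem closes.{u} : ClosesT.{u} (fun j => j) rels 5 4 21 T :=
  hc_closes (N1 := (nat_lit 20)) rfl T_eq (by decide +kernel) rows auxs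
theorem T_inv : ∀ c < 21, ∀ j < 5, T j c < 21 ∧ T j (T j c) = c := 
  hc_inv (inv := (fun j => j)) (N1 := (nat_lit 20)) rfl T_eq rows
end L4

namespace L5
def t0x : TN := (TN.leaf (nat_lit 0x831082cb012acb31015880f817008264bca10143005500d082328482967100e2a0b21641009214218410820))
def t1x : TN := (TN.leaf (nat_lit 0xc013cd6cbcd5a811a192800e08267870286dd01432eb686a280318a82004100f218518672229082110020820))
def t2x : TN := (TN.leaf (nat_lit 0xc813bd14c555082843b133103809680a3b6d08250824644e328f10122aa70822100c100b0821100610030820))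
def t3x : TN := (TN.leaf (nat_lit 0x2a55e00c69d3a9d221d10826780e746f0825dd94600a5c2b20034b4808221010100d08211909100710040820))
def t4x : TN := (TN.leaf (nat_lit 0x32759a74082aa00f0827280d99f22a6e21b0900829eb10132003892c101120040821192618e918c210050820))
def t5x : TN := (TN.leaf (nat_lit 0x5415c3ecc00fb0104bf1acf2bd33732e4389c81438050823480d08224327748632cb1884100a100808201001))
def tt : TN := (TN.node (TN.node (TN.node (TN.node t0x (TN.leaf (nat_lit 0))) (TN.node t4x (TN.leaf (nat_lit 0)))) (TN.node (TN.node t2x (TN.leaf (nat_lit 0))) (TN.node (TN.leaf (nat_lit 0)) (TN.leaf (nat_lit 0))))) (TN.node (TN.node (TN.node t1x (TN.leaf (nat_lit 0))) (TN.node t5x (TN.leaf (nat_lit 0)))) (TN.node (TN.node t3x (TN.leaf (nat_lit 0))) (TN.node (TN.leaf (nat_lit 0)) (TN.leaf (nat_lit 0))))))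
noncomputable def T (j c : ℕ) : ℕ := getL tt (nat_lit 16) (nat_lit 31) j c
noncomputable def E (j c : ℕ) : ℕ := getL tt (nat_lit 16) (nat_lit 65535) j c
theorem T_eq (j c : ℕ) : T j c = E j c % 32 :=
  getL_mod (a := 5) (b := 16) _ _ (by norm_num) (by norm_num) (by norm_num) (by norm_num) j c
def rels : List (List ℕ) := [[nat_lit 0, nat_lit 1, nat_lit 0, nat_lit 1], [nat_lit 0, nat_lit 2, nat_lit 0, nat_lit 2, nat_lit 0, nat_lit 2, nat_lit 0, nat_lit 2, nat_lit 0, nat_lit 2], [nat_lit 1, nat_lit 2, nat_lit 1, nat_lit 2, nat_lit 1, nat_lit 2], [nat_lit 0, nat_lit 1, nat_lit 2, nat_lit 0, nat_lit 1, nat_lit 2, nat_lit 0, nat_lit 1, nat_lit 2, nat_lit 0, nat_lit 1, nat_lit 2, nat_lit 0, nat_lit 1, nat_lit 2], [nat_lit 0, nat_lit 3, nat_lit 0, nat_lit 3], [nat_lit 1, nat_lit 3, nat_lit 1, nat_lit 3], [nat_lit 2, nat_lit 3, nat_lit 2, nat_lit 3, nat_lit 2, nat_lit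 3, nat_lit 2, nat_lit 3], [nat_lit 0, nat_lit 1, nat_lit 3, nat_lit 0, nat_lit 1, nat_lit 3], [nat_lit 0, nat_lit 2, nat_lit 3, nat_lit 0, nat_lit 2, nat_lit 3, nat_lit 0, nat_lit 2, nat_lit 3, nat_lit 0, nat_lit 2, nat_lit 3, nat_lit 0, nat_lit 2, nat_lit 3], [nat_lit 1, nat_lit 2, nat_lit 3, nat_lit 1, nat_lit 2, nat_lit 3, nat_lit 1, nat_lit 2, nat_lit 3], [nat_lit 3, nat_lit 2, nat_lit 0, nat_lit 2, nat_lit 0, nat_lit 1, nat_lit 3, nat_lit 2, nat_lit 0, nat_lit 2, nat_lit 3, nat_lit 0, nat_lit 1, nat_lit 2, nat_lit 0, nat_lit 2, nat_lit 1, nat_lit 0], [nat_lit 0, nat_lit 4, nat_lit 0, nat_lit 4, nat_lit 0, nat_lit 4], [nat_lit 1, nat_lit 4, nat_lit 1, nat_lit 4, nat_lit 1, nat_lit 4], [nat_lit 2, nat_lit 4, nat_lit 2, nat_lit 4, nat_lit 2, nat_lit 4, nat_lit 2, nat_lit 4], [nat_lit 3, nat_lit 4, nat_lit 3, nat_lit 4, nat_lit 3, nat_lit 4], [nat_lit 0, nat_lit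 1, nat_lit 4, nat_lit 0, nat_lit 1, nat_lit 4, nat_lit 0, nat_lit 1, nat_lit 4, nat_lit 0, nat_lit 1, nat_lit 4], [nat_lit 0, nat_lit 2, nat_lit 4, nat_lit 0, nat_lit 2, nat_lit 4, nat_lit 0, nat_lit 2, nat_lit 4, nat_lit 0, nat_lit 2, nat_lit 4, nat_lit 0, nat_lit 2, nat_lit 4, nat_lit 0, nat_lit 2, nat_lit 4, nat_lit 0, nat_lit 2, nat_lit 4], [nat_lit 0, nat_lit 3, nat_lit 4, nat_lit 0, nat_lit 3, nat_lit 4, nat_lit 0, nat_lit 3, nat_lit 4, nat_lit 0, nat_lit 3, nat_lit 4], [nat_lit 1, nat_lit 2, nat_lit 4, nat_lit 1, nat_lit 2, nat_lit 4, nat_lit 1, nat_lit 2, nat_lit 4, nat_lit 1, nat_lit 2, nat_lit 4, nat_lit 1, nat_lit 2, nat_lit 4], [nat_lit 1, nat_lit 3, nat_lit 4, nat_lit 1, nat_lit 3, nat_lit 4, nat_lit 1, nat_lit 3, nat_lit 4, nat_lit 1, nat_lit 3, nat_lit 4], [nat_lit 2, nat_lit 3, nat_lit 4, nat_lit 2, nat_lit 3, nat_lit 4, nat_lit 2, nat_lit 3,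 nat_lit 4, nat_lit 2, nat_lit 3, nat_lit 4, nat_lit 2, nat_lit 3, nat_lit 4, nat_lit 2, nat_lit 3, nat_lit 4, nat_lit 2, nat_lit 3, nat_lit 4], [nat_lit 4, nat_lit 0, nat_lit 2, nat_lit 0, nat_lit 4, nat_lit 0, nat_lit 2, nat_lit 3, nat_lit 2, nat_lit 0, nat_lit 3], [nat_lit 4, nat_lit 1, nat_lit 2, nat_lit 3, nat_lit 4, nat_lit 3, nat_lit 2, nat_lit 1, nat_lit 3, nat_lit 0, nat_lit 2, nat_lit 0, nat_lit 2, nat_lit 1], [nat_lit 0, nat_lit 5, nat_lit 0, nat_lit 5], [nat_lit 1, nat_lit 5, nat_lit 1, nat_lit 5, nat_lit 1, nat_lit 5, nat_lit 1, nat_lit 5], [nat_lit 2, nat_lit 5, nat_lit 2, nat_lit 5, nat_lit 2, nat_lit 5, nat_lit 2, nat_lit 5, nat_lit 2, nat_lit 5], [nat_lit 3, nat_lit 5, nat_lit 3, nat_lit 5, nat_lit 3, nat_lit 5], [nat_lit 4, nat_lit 5, nat_lit 4, nat_lit 5, nat_lit 4, nat_lit 5, nat_lit 4, nat_lit 5], [nat_lit 0, nat_lit 1, nat_lit 5, nat_lit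 0, nat_lit 1, nat_lit 5, nat_lit 0, nat_lit 1, nat_lit 5, nat_lit 0, nat_lit 1, nat_lit 5], [nat_lit 0, nat_lit 2, nat_lit 5, nat_lit 0, nat_lit 2, nat_lit 5, nat_lit 0, nat_lit 2, nat_lit 5, nat_lit 0, nat_lit 2, nat_lit 5], [nat_lit 0, nat_lit 3, nat_lit 5, nat_lit 0, nat_lit 3, nat_lit 5, nat_lit 0, nat_lit 3, nat_lit 5, nat_lit 0, nat_lit 3, nat_lit 5, nat_lit 0, nat_lit 3, nat_lit 5, nat_lit 0, nat_lit 3, nat_lit 5], [nat_lit 0, nat_lit 4, nat_lit 5, nat_lit 0, nat_lit 4, nat_lit 5, nat_lit 0, nat_lit 4, nat_lit 5], [nat_lit 1, nat_lit 2, nat_lit 5, nat_lit 1, nat_lit 2, nat_lit 5, nat_lit 1, nat_lit 2, nat_lit 5, nat_lit 1, nat_lit 2, nat_lit 5, nat_lit 1, nat_lit 2, nat_lit 5], [nat_lit 1, nat_lit 3, nat_lit 5, nat_lit 1, nat_lit 3, nat_lit 5, nat_lit 1, nat_lit 3, nat_lit 5, nat_lit 1, nat_lit 3, nat_lit 5, nat_lit 1, nat_lit 3, nat_lit 5, nat_lit 1,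 nat_lit 3, nat_lit 5], [nat_lit 1, nat_lit 4, nat_lit 5, nat_lit 1, nat_lit 4, nat_lit 5, nat_lit 1, nat_lit 4, nat_lit 5, nat_lit 1, nat_lit 4, nat_lit 5, nat_lit 1, nat_lit 4, nat_lit 5, nat_lit 1, nat_lit 4, nat_lit 5, nat_lit 1, nat_lit 4, nat_lit 5], [nat_lit 2, nat_lit 3, nat_lit 5, nat_lit 2, nat_lit 3, nat_lit 5, nat_lit 2, nat_lit 3, nat_lit 5, nat_lit 2, nat_lit 3, nat_lit 5], [nat_lit 2, nat_lit 4, nat_lit 5, nat_lit 2, nat_lit 4, nat_lit 5, nat_lit 2, nat_lit 4, nat_lit 5, nat_lit 2, nat_lit 4, nat_lit 5, nat_lit 2, nat_lit 4, nat_lit 5, nat_lit 2, nat_lit 4, nat_lit 5], [nat_lit 3, nat_lit 4, nat_lit 5, nat_lit 3, nat_lit 4, nat_lit 5, nat_lit 3, nat_lit 4, nat_lit 5, nat_lit 3, nat_lit 4, nat_lit 5, nat_lit 3, nat_lit 4, nat_lit 5], [nat_lit 5, nat_lit 1, nat_lit 4, nat_lit 1, nat_lit 5, nat_lit 2, nat_lit 4, nat_lit 0, nat_lit 3, nat_lit 4, nat_lit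 2], [nat_lit 5, nat_lit 2, nat_lit 1, nat_lit 0, nat_lit 2, nat_lit 5, nat_lit 0, nat_lit 2, nat_lit 0, nat_lit 1, nat_lit 2, nat_lit 0], [nat_lit 5, nat_lit 2, nat_lit 3, nat_lit 0, nat_lit 2, nat_lit 5, nat_lit 0, nat_lit 2, nat_lit 4, nat_lit 1, nat_lit 0, nat_lit 4, nat_lit 2, nat_lit 0], [nat_lit 5, nat_lit 2, nat_lit 4, nat_lit 0, nat_lit 2, nat_lit 5, nat_lit 2, nat_lit 3, nat_lit 4, nat_lit 2, nat_lit 4, nat_lit 1, nat_lit 4], [nat_lit 5, nat_lit 3, nat_lit 4, nat_lit 2, nat_lit 1, nat_lit 5, nat_lit 1, nat_lit 2, nat_lit 4, nat_lit 3, nat_lit 2, nat_lit 0, nat_lit 1, nat_lit 2, nat_lit 0]]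
def X_t : TN := (TN.leaf (nat_lit 0))
noncomputable def X (i : ℕ) : ℕ := get9 X_t (nat_lit 1) (nat_lit 1) i
def Jp_t : TN := (TN.leaf (nat_lit 0))
noncomputable def Jp (i : ℕ) : ℕ := get9 Jp_t (nat_lit 1) (nat_lit 1) i
def J_t : TN := (TN.leaf (nat_lit 0))
noncomputable def J (k : ℕ) : ℕ := getV J_t Jp k
def Pa_t : TN := (TN.leaf (nat_lit 0xb108c08a4882874863861860653652642635630625623622414413412411205000))
noncomputable def Pa (i : ℕ) : ℕ := get9 Pa_t (nat_lit 12) (nat_lit 4095) i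
def W_t : TL := (TL.node (TL.node (TL.node (TL.node (TL.node (TL.node (TL.leaf [nat_lit 47105, nat_lit 0, nat_lit 5, nat_lit 0, nat_lit 5]) (TL.leaf [nat_lit 43021, nat_lit 2, nat_lit 3, nat_lit 2, nat_lit 0, nat_lit 3, nat_lit 4, nat_lit 0, nat_lit 2, nat_lit 0, nat_lit 4, nat_lit 0])) (TL.leaf [nat_lit 8195, nat_lit 3, nat_lit 0, nat_lit 3, nat_lit 0])) (TL.node (TL.node (TL.leaf [nat_lit 1, nat_lit 0, nat_lit 1, nat_lit 0, nat_lit 1]) (TL.leaf [nat_lit 77835, nat_lit 2, nat_lit 4, nat_lit 0, nat_lit 3, nat_lit 4, nat_lit 2, nat_lit 5, nat_lit 1, nat_lit 4, nat_lit 1, nat_lit 5])) (TL.leaf [nat_lit 53249, nat_lit 3, nat_lit 5, nat_lit 3, nat_lit 5, nat_lit 3, nat_lit 5]))) (TL.node (TL.node (TL.node (TL.leaf [nat_lit 77829, nat_lit 4, nat_lit 1, nat_lit 5, nat_lit 2, nat_lit 4, nat_lit 0, nat_lit 3, nat_lit 4, nat_lit 2, nat_lit 5, nat_lit 1]) (TL.leaf [nat_lit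 3, nat_lit 1, nat_lit 0, nat_lit 1, nat_lit 0])) (TL.leaf [nat_lit 63490, nat_lit 5, nat_lit 4, nat_lit 0, nat_lit 5, nat_lit 4, nat_lit 0, nat_lit 5, nat_lit 4, nat_lit 0])) (TL.node (TL.leaf [nat_lit 28673, nat_lit 3, nat_lit 4, nat_lit 3, nat_lit 4, nat_lit 3, nat_lit 4]) (TL.leaf [nat_lit 59393, nat_lit 0, nat_lit 2, nat_lit 5, nat_lit 0, nat_lit 2, nat_lit 5, nat_lit 0, nat_lit 2, nat_lit 5, nat_lit 0, nat_lit 2, nat_lit 5])))) (TL.node (TL.node (TL.node (TL.node (TL.leaf [nat_lit 53251, nat_lit 5, nat_lit 3, nat_lit 5, nat_lit 3, nat_lit 5, nat_lit 3]) (TL.leaf [nat_lit 79883, nat_lit 5, nat_lit 0, nat_lit 2, nat_lit 0, nat_lit 1, nat_lit 2, nat_lit 0, nat_lit 5, nat_lit 2, nat_lit 1, nat_lit 0, nat_lit 2])) (TL.leaf [nat_lit 4099, nat_lit 2, nat_lit 1, nat_lit 2, nat_lit 1, nat_lit 2, nat_lit 1])) (TL.node (TL.node (TL.leaf [nat_lit 24577, nat_lit 1, nat_lit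 4, nat_lit 1, nat_lit 4, nat_lit 1, nat_lit 4]) (TL.leaf [nat_lit 83980, nat_lit 3, nat_lit 2, nat_lit 5, nat_lit 2, nat_lit 0, nat_lit 4, nat_lit 2, nat_lit 5, nat_lit 4, nat_lit 1, nat_lit 4, nat_lit 2, nat_lit 4])) (TL.leaf [nat_lit 71685, nat_lit 5, nat_lit 2, nat_lit 3, nat_lit 5, nat_lit 2, nat_lit 3, nat_lit 5, nat_lit 2, nat_lit 3, nat_lit 5, nat_lit 2, nat_lit 3]))) (TL.node (TL.node (TL.node (TL.leaf [nat_lit 81944, nat_lit 3, nat_lit 2, nat_lit 5, nat_lit 0, nat_lit 2, nat_lit 4, nat_lit 0, nat_lit 1, nat_lit 4, nat_lit 2, nat_lit 0, nat_lit 5, nat_lit 2, nat_lit 0]) (TL.leaf [nat_lit 32771, nat_lit 2, nat_lit 4, nat_lit 0, nat_lit 2, nat_lit 4, nat_lit 0, nat_lit 2, nat_lit 4, nat_lit 0, nat_lit 2, nat_lit 4, nat_lit 0, nat_lit 2, nat_lit 4, nat_lit 0, nat_lit 2, nat_lit 4, nat_lit 0, nat_lit 2, nat_lit 4, nat_lit 0])) (TL.leaf [nat_lit 12289, nat_lit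 2, nat_lit 3, nat_lit 2, nat_lit 3, nat_lit 2, nat_lit 3, nat_lit 2, nat_lit 3])) (TL.node (TL.leaf [nat_lit 43020, nat_lit 0, nat_lit 4, nat_lit 0, nat_lit 2, nat_lit 0, nat_lit 4, nat_lit 3, nat_lit 0, nat_lit 2, nat_lit 3, nat_lit 2]) (TL.leaf [nat_lit 47107, nat_lit 5, nat_lit 0, nat_lit 5, nat_lit 0]))))) (TL.node (TL.node (TL.node (TL.node (TL.node (TL.leaf [nat_lit 10241, nat_lit 1, nat_lit 3, nat_lit 1, nat_lit 3]) (TL.leaf [nat_lit 12291, nat_lit 3, nat_lit 2, nat_lit 3, nat_lit 2, nat_lit 3, nat_lit 2, nat_lit 3, nat_lit 2])) (TL.leaf [nat_lit 22531, nat_lit 4, nat_lit 0, nat_lit 4, nat_lit 0, nat_lit 4, nat_lit 0])) (TL.node (TL.node (TL.leaf [nat_lit 8193, nat_lit 0, nat_lit 3, nat_lit 0, nat_lit 3]) (TL.leaf [nat_lit 83991, nat_lit 1, nat_lit 4, nat_lit 5, nat_lit 2, nat_lit 4, nat_lit 0, nat_lit 2, nat_lit 5, nat_lit 2, nat_lit 3, nat_lit 4, nat_lit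 2, nat_lit 4])) (TL.leaf [nat_lit 45069, nat_lit 2, nat_lit 1, nat_lit 3, nat_lit 0, nat_lit 2, nat_lit 0, nat_lit 2, nat_lit 1, nat_lit 4, nat_lit 1, nat_lit 2, nat_lit 3, nat_lit 4, nat_lit 3]))) (TL.node (TL.node (TL.node (TL.leaf [nat_lit 83990, nat_lit 4, nat_lit 2, nat_lit 5, nat_lit 4, nat_lit 1, nat_lit 4, nat_lit 2, nat_lit 4, nat_lit 3, nat_lit 2, nat_lit 5, nat_lit 2, nat_lit 0]) (TL.leaf [nat_lit 77833, nat_lit 5, nat_lit 2, nat_lit 4, nat_lit 0, nat_lit 3, nat_lit 4, nat_lit 2, nat_lit 5, nat_lit 1, nat_lit 4, nat_lit 1])) (TL.leaf [nat_lit 4097, nat_lit 1, nat_lit 2, nat_lit 1, nat_lit 2, nat_lit 1, nat_lit 2])) (TL.node (TL.leaf [nat_lit 26627, nat_lit 4, nat_lit 2, nat_lit 4, nat_lit 2, nat_lit 4, nat_lit 2, nat_lit 4, nat_lit 2]) (TL.leaf [nat_lit 83969, nat_lit 5, nat_lit 2, nat_lit 4, nat_lit 0, nat_lit 2, nat_lit 5, nat_lit 2, nat_lit 3, nat_lit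 4, nat_lit 2, nat_lit 4, nat_lit 1, nat_lit 4])))) (TL.node (TL.node (TL.node (TL.node (TL.leaf [nat_lit 49153, nat_lit 1, nat_lit 5, nat_lit 1, nat_lit 5, nat_lit 1, nat_lit 5, nat_lit 1, nat_lit 5]) (TL.leaf [nat_lit 22529, nat_lit 0, nat_lit 4, nat_lit 0, nat_lit 4, nat_lit 0, nat_lit 4])) (TL.leaf [nat_lit 18436, nat_lit 2, nat_lit 1, nat_lit 3, nat_lit 2, nat_lit 1, nat_lit 3, nat_lit 2, nat_lit 1, nat_lit 3])) (TL.node (TL.leaf [nat_lit 28675, nat_lit 4, nat_lit 3, nat_lit 4, nat_lit 3, nat_lit 4, nat_lit 3]) (TL.leaf [nat_lit 40961, nat_lit 2, nat_lit 3, nat_lit 4, nat_lit 2, nat_lit 3, nat_lit 4, nat_lit 2, nat_lit 3, nat_lit 4, nat_lit 2, nat_lit 3, nat_lit 4, nat_lit 2, nat_lit 3, nat_lit 4, nat_lit 2, nat_lit 3, nat_lit 4, nat_lit 2, nat_lit 3, nat_lit 4]))) (TL.node (TL.node (TL.node (TL.leaf [nat_lit 86042, nat_lit 4, nat_lit 3, nat_lit 5, nat_lit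 0, nat_lit 2, nat_lit 1, nat_lit 0, nat_lit 2, nat_lit 3, nat_lit 4, nat_lit 2, nat_lit 1, nat_lit 5, nat_lit 1, nat_lit 2]) (TL.leaf [nat_lit 55299, nat_lit 5, nat_lit 4, nat_lit 5, nat_lit 4, nat_lit 5, nat_lit 4, nat_lit 5, nat_lit 4])) (TL.leaf [nat_lit 79873, nat_lit 5, nat_lit 2, nat_lit 1, nat_lit 0, nat_lit 2, nat_lit 5, nat_lit 0, nat_lit 2, nat_lit 0, nat_lit 1, nat_lit 2, nat_lit 0])) (TL.node (TL.leaf [nat_lit 79891, nat_lit 1, nat_lit 2, nat_lit 0, nat_lit 5, nat_lit 2, nat_lit 1, nat_lit 0, nat_lit 2, nat_lit 5, nat_lit 0, nat_lit 2, nat_lit 0]) (TL.leaf [nat_lit 81925, nat_lit 3, nat_lit 0, nat_lit 2, nat_lit 5, nat_lit 0, nat_lit 2, nat_lit 4, nat_lit 1, nat_lit 0, nat_lit 4, nat_lit 2, nat_lit 0, nat_lit 5, nat_lit 2]))))))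
noncomputable def W (i : ℕ) : List ℕ := TL.get W_t i
def WA_t : TL := (TL.leaf [nat_lit 0])
noncomputable def WA (i : ℕ) : List ℕ := TL.get WA_t i
noncomputable def row : ℕ → ℕ := hRow (nat_lit 21) (nat_lit 6) (nat_lit 5) (nat_lit 32) (nat_lit 64) (nat_lit 2048) (nat_lit 512) (nat_lit 512) (nat_lit 0) E X Pa (fun j => j) (wfun (nat_lit 43) W_t)
noncomputable def aux : ℕ → ℕ := hAux (nat_lit 22) (nat_lit 6) (nat_lit 32) (nat_lit 2048) (nat_lit 512) (nat_lit 2) (nat_lit 2) (nat_lit 512) (nat_lit 0) E X J Pa (fun j => j) WA_t.get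
theorem r0 : Nat.beq (rng row (nat_lit 0) (nat_lit 22)) (nat_lit 0) = true := by decide +kernel
theorem rows : ∀ i < 22, row i = 0 := by
  have h := zero_lt_zero row
  have h := zero_lt_add (a := (nat_lit 0)) (n := (nat_lit 22)) (b := (nat_lit 22)) h r0 rfl
  exact h
theorem auxs : ∀ i < 0, aux i = 0 := by
  have h := zero_lt_zero aux
  exact h
theorem closes.{u} : ClosesT.{u} (fun j => j) rels 6 5 22 T :=
  hc_closes (N1 := (nat_lit 21)) rfl T_eq (by decide +kernel) rows auxs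
theorem T_inv : ∀ c < 22, ∀ j < 6, T j c < 22 ∧ T j (T j c) = c := 
  hc_inv (inv := (fun j => j)) (N1 := (nat_lit 21)) rfl T_eq rows
end L5

namespace L6
def t0x : TN := (TN.leaf (nat_lit 0xec05da8054d4052040cb040c76835ee82e394050040c0642da88051d4045914d7954d6bc03da4262040b2d0361854d9914dcb402f7c03a80027040a608060282ca640343c3480805f0409fd07580409e654c3800308ae380805b9c031182bebb6d5614bc1802a7874e180298c0418c035894b6882b7603491001a080539823f7c742b074f04094740253c0284472b142bb142393832c7c24d0804c7022d480192432359e98396211c3200804608044140131431c140110c333447245c022040871400e1400c0802e1021d3800f1031b2c71035492103162070d1029518d0b10005107091000408017100030c30a0c2880c206040810800204080))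
def t1x : TN := (TN.leaf (nat_lit 0xa83e3040d1d3661e004ba8053cb65ec885dc8050ad6dbd4056a4054bc045a3457d03dab803da33d9a56dfa485208062c47dcc402ebc044040a67c027dfd609c03e900308aec89f3b26403bb87d8bb64ec403cb0034107c1a83c09802c983cab47d5c38c3616c6b081e0409b7c83888033847b60409aaf3c2843b7a00476c0288c3c904094c07cf700169483f3482b5c01f040916a2317a8cc0804d0408e5c01892f1c55c99147a1724a0583aab403a0408a9402308039080355802258824400126e6ad100080802f040853d697080291881028787080251080d100041078b0801d208090c3952c00f04082080130c38c04081080060800304080))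
def t2x : TN := (TN.leaf (nat_lit 0xe0056a9062da3e1b35e0ad05fc6a5eb004b10043aebdb8f05a1003c040b998053debe3040b4700509415724051201526e2d4040a8cc03b90037723ccac15dc002e92bc97802774032c403f0409eb802c0c15cac0230409da0030c10c6a80310409c0c159c904e0409b080588802a8d04d0409a829b5080557802570147a4e3e9c14020029bd0ca690adb7744661ab86a381d02f0804f768480408e767b368018ab4c20408d0408c685161011f08045080410803d0803a080361909964124480106c0202800f040851c0111011218e934599724115080260802208021040830c50a14e09140060408210b08080140c4840800b080070c10104080))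
def t3x : TN := (TN.leaf (nat_lit 0x40d2c4059e805de3dcb9de5fd1bdee5ae1d8050a8041040bcc1fe2c92589f357cc043b9255bc05199e5308063bb7d4d7bdcb40348c03a8402674027e4060040a38c02fc402b9b14760039bd2458c01ecbad68402ea5e5ba40389dfbf0409c9f1bd0805a0409b89bce5de46a12400409a9002084033b08cf81db5970b2745b10409489bc981e427402561bacc08c8040915801f65ba87244c8094d71fad6000f0804a50017212218d13655da9888c41800a0803e0803b080374c012040874daa25400e04086080301000549a190802a108905dfa451b961888d040831d10b1491d253090408208018080150c593040810800c080080800404080))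
def t4x : TN := (TN.leaf (nat_lit 0x993e3f0061ed3e298c60dc05adfcde10043a0050b0c5bda75f74056d003b9404b701d976555900538edd478032341d19c1dcb004d040a6ae54f78049901d7ac0407594c80039581c7c002ac401f1c02e0c1dd0409d9c028a93ca0409ca13be98036441bcce558700347e9480409a9002396fbd78cb56cbba6802c741d218cb1780257401618c44040936593304091bc1c6315299b2c10408e0804e753b01000f8d93718018417a154ca0c39c50408a080420803f4191b080380408714f22400127272f3c00b140050802d3d7170802b040840c1a4080270408314f8c395950801e0408229388080191d18610b94080100800d080090c18104080))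
def t5x : TN := (TN.leaf (nat_lit 0xec05df4053040d0a404b7a05f040c3e89e3cbb52c4055a09da8e059d58d89c03c9b256c205b040b2f18e2cc05c8ac5108061b40378004c840277d8cea2ae01c9ca040a2040a1765c77c02dc98c5a801e0805e86042a18c1af53da002e289beb00409a5d72001d7002654029618b8b18cf8ecb67402f04098040970805404094789b071c359e03f7a04604092418ab1801351c390408f82acd6e33a61c1f620240408d08049080480408b64025a58c41c9bb0408904088040875df190803408033040865000c08031149aa0802c040843d8100802804083080234db1508020040820801c0801b0801a0801604081080110800e0800a0800504080))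
def t6x : TN := (TN.leaf (nat_lit 0xe4055dc061d8462284602045fc3a5e040c2040c11845bdbc5a040bad003b040b7040b4e06637c04f8804d040af040a9040a87a65484039844538044c040a3b003f92d497c026040a01c02ec401ebc02a0409d0805d0805c0409cac6caac63e9c0300409bcc65808059806ce8402c080578402586b35080567c01a0409618db1986bd0805218446646ad806b8606abbb84408051080505800e78648806360408d0804b6401814621080470408ac394508043080400803c78ab3146996212244010080322400b1400560613040845e091406970408355d270802410a0c212950801f1068934006106073140810a94080120800f0c4020408008001))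
def tt : TN := (TN.node (TN.node (TN.node (TN.node t0x (TN.leaf (nat_lit 0))) (TN.node t4x (TN.leaf (nat_lit 0)))) (TN.node (TN.node t2x (TN.leaf (nat_lit 0))) (TN.node t6x (TN.leaf (nat_lit 0))))) (TN.node (TN.node (TN.node t1x (TN.leaf (nat_lit 0))) (TN.node t5x (TN.leaf (nat_lit 0)))) (TN.node (TN.node t3x (TN.leaf (nat_lit 0))) (TN.node (TN.leaf (nat_lit 0)) (TN.leaf (nat_lit 0))))))
noncomputable def T (j c : ℕ) : ℕ := getL tt (nat_lit 20) (nat_lit 127) j c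
noncomputable def E (j c : ℕ) : ℕ := getL tt (nat_lit 20) (nat_lit 0xfffff) j c
theorem T_eq (j c : ℕ) : T j c = E j c % 128 :=
  getL_mod (a := 7) (b := 20) _ _ (by norm_num) (by norm_num) (by norm_num) (by norm_num) j c
def rels : List (List ℕ) := [[nat_lit 0, nat_lit 1, nat_lit 0, nat_lit 1], [nat_lit 0, nat_lit 2, nat_lit 0, nat_lit 2, nat_lit 0, nat_lit 2, nat_lit 0, nat_lit 2, nat_lit 0, nat_lit 2], [nat_lit 1, nat_lit 2, nat_lit 1, nat_lit 2, nat_lit 1, nat_lit 2], [nat_lit 0, nat_lit 1, nat_lit 2, nat_lit 0, nat_lit 1, nat_lit 2, nat_lit 0, nat_lit 1, nat_lit 2, nat_lit 0, nat_lit 1, nat_lit 2, nat_lit 0, nat_lit 1, nat_lit 2], [nat_lit 0, nat_lit 3, nat_lit 0, nat_lit 3], [nat_lit 1, nat_lit 3, nat_lit 1, nat_lit 3], [nat_lit 2, nat_lit 3, nat_lit 2, nat_lit 3, nat_lit 2, nat_lit 3, nat_lit 2, nat_lit 3], [nat_lit 0, nat_lit 1, nat_lit 3, nat_lit 0,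 nat_lit 1, nat_lit 3], [nat_lit 0, nat_lit 2, nat_lit 3, nat_lit 0, nat_lit 2, nat_lit 3, nat_lit 0, nat_lit 2, nat_lit 3, nat_lit 0, nat_lit 2, nat_lit 3, nat_lit 0, nat_lit 2, nat_lit 3], [nat_lit 1, nat_lit 2, nat_lit 3, nat_lit 1, nat_lit 2, nat_lit 3, nat_lit 1, nat_lit 2, nat_lit 3], [nat_lit 3, nat_lit 2, nat_lit 0, nat_lit 2, nat_lit 0, nat_lit 1, nat_lit 3, nat_lit 2, nat_lit 0, nat_lit 2, nat_lit 3, nat_lit 0, nat_lit 1, nat_lit 2, nat_lit 0, nat_lit 2, nat_lit 1, nat_lit 0], [nat_lit 0, nat_lit 4, nat_lit 0, nat_lit 4, nat_lit 0, nat_lit 4], [nat_lit 1, nat_lit 4, nat_lit 1, nat_lit 4, nat_lit 1, nat_lit 4], [nat_lit 2, nat_lit 4, nat_lit 2, nat_lit 4, nat_lit 2, nat_lit 4, nat_lit 2, nat_lit 4], [nat_lit 3, nat_lit 4, nat_lit 3, nat_lit 4, nat_lit 3, nat_lit 4], [nat_lit 0, nat_lit 1, nat_lit 4, nat_lit 0, nat_lit 1, nat_lit 4, nat_lit 0, nat_lit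 1, nat_lit 4, nat_lit 0, nat_lit 1, nat_lit 4], [nat_lit 0, nat_lit 2, nat_lit 4, nat_lit 0, nat_lit 2, nat_lit 4, nat_lit 0, nat_lit 2, nat_lit 4, nat_lit 0, nat_lit 2, nat_lit 4, nat_lit 0, nat_lit 2, nat_lit 4, nat_lit 0, nat_lit 2, nat_lit 4, nat_lit 0, nat_lit 2, nat_lit 4], [nat_lit 0, nat_lit 3, nat_lit 4, nat_lit 0, nat_lit 3, nat_lit 4, nat_lit 0, nat_lit 3, nat_lit 4, nat_lit 0, nat_lit 3, nat_lit 4], [nat_lit 1, nat_lit 2, nat_lit 4, nat_lit 1, nat_lit 2, nat_lit 4, nat_lit 1, nat_lit 2, nat_lit 4, nat_lit 1, nat_lit 2, nat_lit 4, nat_lit 1, nat_lit 2, nat_lit 4], [nat_lit 1, nat_lit 3, nat_lit 4, nat_lit 1, nat_lit 3, nat_lit 4, nat_lit 1, nat_lit 3, nat_lit 4, nat_lit 1, nat_lit 3, nat_lit 4], [nat_lit 2, nat_lit 3, nat_lit 4, nat_lit 2, nat_lit 3, nat_lit 4, nat_lit 2, nat_lit 3, nat_lit 4, nat_lit 2, nat_lit 3, nat_lit 4, nat_lit 2, nat_lit 3,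 nat_lit 4, nat_lit 2, nat_lit 3, nat_lit 4, nat_lit 2, nat_lit 3, nat_lit 4], [nat_lit 4, nat_lit 0, nat_lit 2, nat_lit 0, nat_lit 4, nat_lit 0, nat_lit 2, nat_lit 3, nat_lit 2, nat_lit 0, nat_lit 3], [nat_lit 4, nat_lit 1, nat_lit 2, nat_lit 3, nat_lit 4, nat_lit 3, nat_lit 2, nat_lit 1, nat_lit 3, nat_lit 0, nat_lit 2, nat_lit 0, nat_lit 2, nat_lit 1], [nat_lit 0, nat_lit 5, nat_lit 0, nat_lit 5], [nat_lit 1, nat_lit 5, nat_lit 1, nat_lit 5, nat_lit 1, nat_lit 5, nat_lit 1, nat_lit 5], [nat_lit 2, nat_lit 5, nat_lit 2, nat_lit 5, nat_lit 2, nat_lit 5, nat_lit 2, nat_lit 5, nat_lit 2, nat_lit 5], [nat_lit 3, nat_lit 5, nat_lit 3, nat_lit 5, nat_lit 3, nat_lit 5], [nat_lit 4, nat_lit 5, nat_lit 4, nat_lit 5, nat_lit 4, nat_lit 5, nat_lit 4, nat_lit 5], [nat_lit 0, nat_lit 1, nat_lit 5, nat_lit 0, nat_lit 1, nat_lit 5, nat_lit 0, nat_lit 1, nat_lit 5, nat_lit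 0, nat_lit 1, nat_lit 5], [nat_lit 0, nat_lit 2, nat_lit 5, nat_lit 0, nat_lit 2, nat_lit 5, nat_lit 0, nat_lit 2, nat_lit 5, nat_lit 0, nat_lit 2, nat_lit 5], [nat_lit 0, nat_lit 3, nat_lit 5, nat_lit 0, nat_lit 3, nat_lit 5, nat_lit 0, nat_lit 3, nat_lit 5, nat_lit 0, nat_lit 3, nat_lit 5, nat_lit 0, nat_lit 3, nat_lit 5, nat_lit 0, nat_lit 3, nat_lit 5], [nat_lit 0, nat_lit 4, nat_lit 5, nat_lit 0, nat_lit 4, nat_lit 5, nat_lit 0, nat_lit 4, nat_lit 5], [nat_lit 1, nat_lit 2, nat_lit 5, nat_lit 1, nat_lit 2, nat_lit 5, nat_lit 1, nat_lit 2, nat_lit 5, nat_lit 1, nat_lit 2, nat_lit 5, nat_lit 1, nat_lit 2, nat_lit 5], [nat_lit 1, nat_lit 3, nat_lit 5, nat_lit 1, nat_lit 3, nat_lit 5, nat_lit 1, nat_lit 3, nat_lit 5, nat_lit 1, nat_lit 3, nat_lit 5, nat_lit 1, nat_lit 3, nat_lit 5, nat_lit 1, nat_lit 3, nat_lit 5], [nat_lit 1, nat_lit 4, nat_lit 5, nat_lit 1,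 nat_lit 4, nat_lit 5, nat_lit 1, nat_lit 4, nat_lit 5, nat_lit 1, nat_lit 4, nat_lit 5, nat_lit 1, nat_lit 4, nat_lit 5, nat_lit 1, nat_lit 4, nat_lit 5, nat_lit 1, nat_lit 4, nat_lit 5], [nat_lit 2, nat_lit 3, nat_lit 5, nat_lit 2, nat_lit 3, nat_lit 5, nat_lit 2, nat_lit 3, nat_lit 5, nat_lit 2, nat_lit 3, nat_lit 5], [nat_lit 2, nat_lit 4, nat_lit 5, nat_lit 2, nat_lit 4, nat_lit 5, nat_lit 2, nat_lit 4, nat_lit 5, nat_lit 2, nat_lit 4, nat_lit 5, nat_lit 2, nat_lit 4, nat_lit 5, nat_lit 2, nat_lit 4, nat_lit 5], [nat_lit 3, nat_lit 4, nat_lit 5, nat_lit 3, nat_lit 4, nat_lit 5, nat_lit 3, nat_lit 4, nat_lit 5, nat_lit 3, nat_lit 4, nat_lit 5, nat_lit 3, nat_lit 4, nat_lit 5], [nat_lit 5, nat_lit 1, nat_lit 4, nat_lit 1, nat_lit 5, nat_lit 2, nat_lit 4, nat_lit 0, nat_lit 3, nat_lit 4, nat_lit 2], [nat_lit 5, nat_lit 2, nat_lit 1, nat_lit 0, nat_lit 2, nat_lit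 5, nat_lit 0, nat_lit 2, nat_lit 0, nat_lit 1, nat_lit 2, nat_lit 0], [nat_lit 5, nat_lit 2, nat_lit 3, nat_lit 0, nat_lit 2, nat_lit 5, nat_lit 0, nat_lit 2, nat_lit 4, nat_lit 1, nat_lit 0, nat_lit 4, nat_lit 2, nat_lit 0], [nat_lit 5, nat_lit 2, nat_lit 4, nat_lit 0, nat_lit 2, nat_lit 5, nat_lit 2, nat_lit 3, nat_lit 4, nat_lit 2, nat_lit 4, nat_lit 1, nat_lit 4], [nat_lit 5, nat_lit 3, nat_lit 4, nat_lit 2, nat_lit 1, nat_lit 5, nat_lit 1, nat_lit 2, nat_lit 4, nat_lit 3, nat_lit 2, nat_lit 0, nat_lit 1, nat_lit 2, nat_lit 0], [nat_lit 0, nat_lit 6, nat_lit 0, nat_lit 6, nat_lit 0, nat_lit 6], [nat_lit 1, nat_lit 6, nat_lit 1, nat_lit 6, nat_lit 1, nat_lit 6, nat_lit 1, nat_lit 6, nat_lit 1, nat_lit 6], [nat_lit 2, nat_lit 6, nat_lit 2, nat_lit 6], [nat_lit 3, nat_lit 6, nat_lit 3, nat_lit 6, nat_lit 3, nat_lit 6, nat_lit 3, nat_lit 6, nat_lit 3, nat_lit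 6], [nat_lit 4, nat_lit 6, nat_lit 4, nat_lit 6], [nat_lit 5, nat_lit 6, nat_lit 5, nat_lit 6, nat_lit 5, nat_lit 6, nat_lit 5, nat_lit 6, nat_lit 5, nat_lit 6], [nat_lit 0, nat_lit 1, nat_lit 6, nat_lit 0, nat_lit 1, nat_lit 6, nat_lit 0, nat_lit 1, nat_lit 6, nat_lit 0, nat_lit 1, nat_lit 6, nat_lit 0, nat_lit 1, nat_lit 6], [nat_lit 0, nat_lit 2, nat_lit 6, nat_lit 0, nat_lit 2, nat_lit 6, nat_lit 0, nat_lit 2, nat_lit 6, nat_lit 0, nat_lit 2, nat_lit 6, nat_lit 0, nat_lit 2, nat_lit 6], [nat_lit 0, nat_lit 3, nat_lit 6, nat_lit 0, nat_lit 3, nat_lit 6, nat_lit 0, nat_lit 3, nat_lit 6, nat_lit 0, nat_lit 3, nat_lit 6, nat_lit 0, nat_lit 3, nat_lit 6], [nat_lit 0, nat_lit 4, nat_lit 6, nat_lit 0, nat_lit 4, nat_lit 6, nat_lit 0, nat_lit 4, nat_lit 6, nat_lit 0, nat_lit 4, nat_lit 6], [nat_lit 0, nat_lit 5, nat_lit 6, nat_lit 0, nat_lit 5, nat_lit 6, nat_lit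 0, nat_lit 5, nat_lit 6, nat_lit 0, nat_lit 5, nat_lit 6, nat_lit 0, nat_lit 5, nat_lit 6], [nat_lit 1, nat_lit 2, nat_lit 6, nat_lit 1, nat_lit 2, nat_lit 6, nat_lit 1, nat_lit 2, nat_lit 6, nat_lit 1, nat_lit 2, nat_lit 6, nat_lit 1, nat_lit 2, nat_lit 6], [nat_lit 1, nat_lit 3, nat_lit 6, nat_lit 1, nat_lit 3, nat_lit 6, nat_lit 1, nat_lit 3, nat_lit 6], [nat_lit 1, nat_lit 4, nat_lit 6, nat_lit 1, nat_lit 4, nat_lit 6, nat_lit 1, nat_lit 4, nat_lit 6, nat_lit 1, nat_lit 4, nat_lit 6, nat_lit 1, nat_lit 4, nat_lit 6], [nat_lit 1, nat_lit 5, nat_lit 6, nat_lit 1, nat_lit 5, nat_lit 6, nat_lit 1, nat_lit 5, nat_lit 6, nat_lit 1, nat_lit 5, nat_lit 6, nat_lit 1, nat_lit 5, nat_lit 6, nat_lit 1, nat_lit 5, nat_lit 6, nat_lit 1, nat_lit 5, nat_lit 6], [nat_lit 2, nat_lit 3, nat_lit 6, nat_lit 2, nat_lit 3, nat_lit 6, nat_lit 2, nat_lit 3, nat_lit 6, nat_lit 2,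 nat_lit 3, nat_lit 6, nat_lit 2, nat_lit 3, nat_lit 6], [nat_lit 2, nat_lit 4, nat_lit 6, nat_lit 2, nat_lit 4, nat_lit 6, nat_lit 2, nat_lit 4, nat_lit 6, nat_lit 2, nat_lit 4, nat_lit 6], [nat_lit 2, nat_lit 5, nat_lit 6, nat_lit 2, nat_lit 5, nat_lit 6, nat_lit 2, nat_lit 5, nat_lit 6], [nat_lit 3, nat_lit 4, nat_lit 6, nat_lit 3, nat_lit 4, nat_lit 6, nat_lit 3, nat_lit 4, nat_lit 6, nat_lit 3, nat_lit 4, nat_lit 6, nat_lit 3, nat_lit 4, nat_lit 6], [nat_lit 3, nat_lit 5, nat_lit 6, nat_lit 3, nat_lit 5, nat_lit 6, nat_lit 3, nat_lit 5, nat_lit 6, nat_lit 3, nat_lit 5, nat_lit 6, nat_lit 3, nat_lit 5, nat_lit 6, nat_lit 3, nat_lit 5, nat_lit 6, nat_lit 3, nat_lit 5, nat_lit 6, nat_lit 3, nat_lit 5, nat_lit 6], [nat_lit 4, nat_lit 5, nat_lit 6, nat_lit 4, nat_lit 5, nat_lit 6, nat_lit 4, nat_lit 5, nat_lit 6, nat_lit 4, nat_lit 5, nat_lit 6, nat_lit 4, nat_lit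 5, nat_lit 6, nat_lit 4, nat_lit 5, nat_lit 6], [nat_lit 6, nat_lit 3, nat_lit 2, nat_lit 3, nat_lit 6, nat_lit 1, nat_lit 2, nat_lit 0, nat_lit 1, nat_lit 3, nat_lit 2, nat_lit 1], [nat_lit 6, nat_lit 5, nat_lit 3, nat_lit 1, nat_lit 5, nat_lit 6, nat_lit 1, nat_lit 2, nat_lit 4, nat_lit 1, nat_lit 0, nat_lit 4, nat_lit 5, nat_lit 1, nat_lit 4, nat_lit 3], [nat_lit 6, nat_lit 5, nat_lit 4, nat_lit 2, nat_lit 5, nat_lit 6, nat_lit 4, nat_lit 5, nat_lit 2, nat_lit 4, nat_lit 5, nat_lit 2, nat_lit 4, nat_lit 2], [nat_lit 6, nat_lit 0, nat_lit 1, nat_lit 2, nat_lit 3, nat_lit 0, nat_lit 6, nat_lit 0, nat_lit 1, nat_lit 2, nat_lit 0, nat_lit 3], [nat_lit 6, nat_lit 0, nat_lit 5, nat_lit 2, nat_lit 5, nat_lit 0, nat_lit 6, nat_lit 2, nat_lit 4, nat_lit 5, nat_lit 1, nat_lit 2, nat_lit 5, nat_lit 3]]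
def X_t : TN := (TN.leaf (nat_lit 0))
noncomputable def X (i : ℕ) : ℕ := get9 X_t (nat_lit 1) (nat_lit 1) i
def Jp_t : TN := (TN.leaf (nat_lit 0))
noncomputable def Jp (i : ℕ) : ℕ := get9 Jp_t (nat_lit 1) (nat_lit 1) i
def J_t : TN := (TN.leaf (nat_lit 0))
noncomputable def J (k : ℕ) : ℕ := getV J_t Jp k
def Pa_t : TN := (TN.leaf (nat_lit 0xd48f511d4174b0d1c3435d09b416d0033c3ce9b392cddb346cd0b325cc82af6aa5aa86aa0aa64a986a60a8daa33a896a15a81a9f0a78a9e0a75a9d4a74a9c6a7129c3a70a9b6a6ce9b2a6c69a4a68e9a2a686985a5d69668516143850614084d2125845211384460f583920e283860d683560d2830a0b5829a0a48286095821607581d207381c2065818d8526145846611584460d983560d183360c982560918236089821405501340450102018000))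
noncomputable def Pa (i : ℕ) : ℕ := get9 Pa_t (nat_lit 14) (nat_lit 16383) i
def W_t1 : TL := (TL.node (TL.node (TL.node (TL.node (TL.node (TL.node (TL.leaf [nat_lit 92161, nat_lit 2, nat_lit 6, nat_lit 2, nat_lit 6]) (TL.leaf [nat_lit 137217, nat_lit 6, nat_lit 0, nat_lit 1, nat_lit 2, nat_lit 3, nat_lit 0, nat_lit 6, nat_lit 0, nat_lit 1, nat_lit 2, nat_lit 0, nat_lit 3])) (TL.node (TL.leaf [nat_lit 131091, nat_lit 3, nat_lit 2, nat_lit 1, nat_lit 6, nat_lit 3, nat_lit 2, nat_lit 3, nat_lit 6, nat_lit 1, nat_lit 2, nat_lit 0, nat_lit 1]) (TL.leaf [nat_lit 131075, nat_lit 3, nat_lit 2, nat_lit 3, nat_lit 6, nat_lit 1, nat_lit 2, nat_lit 0, nat_lit 1, nat_lit 3, nat_lit 2, nat_lit 1, nat_lit 6]))) (TL.node (TL.node (TL.leaf [nat_lit 14341, nat_lit 3, nat_lit 0, nat_lit 1, nat_lit 3, nat_lit 0, nat_lit 1]) (TL.leaf [nat_lit 135181, nat_lit 4, nat_lit 5, nat_lit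 2, nat_lit 4, nat_lit 5, nat_lit 2, nat_lit 4, nat_lit 2, nat_lit 6, nat_lit 5, nat_lit 4, nat_lit 2, nat_lit 5, nat_lit 6])) (TL.node (TL.leaf [nat_lit 63491, nat_lit 4, nat_lit 5, nat_lit 0, nat_lit 4, nat_lit 5, nat_lit 0, nat_lit 4, nat_lit 5, nat_lit 0]) (TL.leaf [nat_lit 131081, nat_lit 6, nat_lit 1, nat_lit 2, nat_lit 0, nat_lit 1, nat_lit 3, nat_lit 2, nat_lit 1, nat_lit 6, nat_lit 3, nat_lit 2, nat_lit 3])))) (TL.node (TL.node (TL.node (TL.leaf [nat_lit 139271, nat_lit 2, nat_lit 5, nat_lit 0, nat_lit 6, nat_lit 2, nat_lit 4, nat_lit 5, nat_lit 1, nat_lit 2, nat_lit 5, nat_lit 3, nat_lit 6, nat_lit 0, nat_lit 5]) (TL.leaf [nat_lit 26627, nat_lit 4, nat_lit 2, nat_lit 4, nat_lit 2, nat_lit 4, nat_lit 2, nat_lit 4, nat_lit 2])) (TL.node (TL.leaf [nat_lit 77829, nat_lit 4, nat_lit 1, nat_lit 5, nat_lit 2, nat_lit 4, nat_lit 0, nat_lit 3, nat_lit 4, nat_lit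 2, nat_lit 5, nat_lit 1]) (TL.leaf [nat_lit 139283, nat_lit 5, nat_lit 1, nat_lit 2, nat_lit 5, nat_lit 3, nat_lit 6, nat_lit 0, nat_lit 5, nat_lit 2, nat_lit 5, nat_lit 0, nat_lit 6, nat_lit 2, nat_lit 4]))) (TL.node (TL.node (TL.leaf [nat_lit 2049, nat_lit 0, nat_lit 2, nat_lit 0, nat_lit 2, nat_lit 0, nat_lit 2, nat_lit 0, nat_lit 2, nat_lit 0, nat_lit 2]) (TL.leaf [nat_lit 139292, nat_lit 6, nat_lit 3, nat_lit 5, nat_lit 2, nat_lit 1, nat_lit 5, nat_lit 4, nat_lit 2, nat_lit 6, nat_lit 0, nat_lit 5, nat_lit 2, nat_lit 5, nat_lit 0])) (TL.node (TL.leaf [nat_lit 135186, nat_lit 6, nat_lit 5, nat_lit 2, nat_lit 4, nat_lit 5, nat_lit 6, nat_lit 2, nat_lit 4, nat_lit 2, nat_lit 5, nat_lit 4, nat_lit 2, nat_lit 5, nat_lit 4]) (TL.leaf [nat_lit 81930, nat_lit 1, nat_lit 4, nat_lit 2, nat_lit 0, nat_lit 5, nat_lit 2, nat_lit 0, nat_lit 3, nat_lit 2, nat_lit 5, nat_lit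 0, nat_lit 2, nat_lit 4, nat_lit 0]))))) (TL.node (TL.node (TL.node (TL.node (TL.leaf [nat_lit 47105, nat_lit 0, nat_lit 5, nat_lit 0, nat_lit 5]) (TL.leaf [nat_lit 51203, nat_lit 5, nat_lit 2, nat_lit 5, nat_lit 2, nat_lit 5, nat_lit 2, nat_lit 5, nat_lit 2, nat_lit 5, nat_lit 2])) (TL.node (TL.leaf [nat_lit 45063, nat_lit 3, nat_lit 4, nat_lit 3, nat_lit 2, nat_lit 1, nat_lit 3, nat_lit 0, nat_lit 2, nat_lit 0, nat_lit 2, nat_lit 1, nat_lit 4, nat_lit 1, nat_lit 2]) (TL.leaf [nat_lit 131079, nat_lit 3, nat_lit 6, nat_lit 1, nat_lit 2, nat_lit 0, nat_lit 1, nat_lit 3, nat_lit 2, nat_lit 1, nat_lit 6, nat_lit 3, nat_lit 2]))) (TL.node (TL.node (TL.leaf [nat_lit 137222, nat_lit 2, nat_lit 1, nat_lit 0, nat_lit 6, nat_lit 0, nat_lit 3, nat_lit 2, nat_lit 1, nat_lit 0, nat_lit 6, nat_lit 3, nat_lit 0]) (TL.leaf [nat_lit 135169, nat_lit 6, nat_lit 5, nat_lit 4, nat_lit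 2, nat_lit 5, nat_lit 6, nat_lit 4, nat_lit 5, nat_lit 2, nat_lit 4, nat_lit 5, nat_lit 2, nat_lit 4, nat_lit 2])) (TL.node (TL.leaf [nat_lit 79883, nat_lit 5, nat_lit 0, nat_lit 2, nat_lit 0, nat_lit 1, nat_lit 2, nat_lit 0, nat_lit 5, nat_lit 2, nat_lit 1, nat_lit 0, nat_lit 2]) (TL.leaf [nat_lit 83994, nat_lit 5, nat_lit 4, nat_lit 1, nat_lit 4, nat_lit 2, nat_lit 4, nat_lit 3, nat_lit 2, nat_lit 5, nat_lit 2, nat_lit 0, nat_lit 4, nat_lit 2])))) (TL.node (TL.node (TL.node (TL.leaf [nat_lit 22529, nat_lit 0, nat_lit 4, nat_lit 0, nat_lit 4, nat_lit 0, nat_lit 4]) (TL.leaf [nat_lit 24579, nat_lit 4, nat_lit 1, nat_lit 4, nat_lit 1, nat_lit 4, nat_lit 1])) (TL.node (TL.leaf [nat_lit 43017, nat_lit 4, nat_lit 0, nat_lit 2, nat_lit 3, nat_lit 2, nat_lit 0, nat_lit 3, nat_lit 4, nat_lit 0, nat_lit 2, nat_lit 0]) (TL.leaf [nat_lit 83982, nat_lit 2, nat_lit 5, nat_lit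 2, nat_lit 0, nat_lit 4, nat_lit 2, nat_lit 5, nat_lit 4, nat_lit 1, nat_lit 4, nat_lit 2, nat_lit 4, nat_lit 3]))) (TL.node (TL.node (TL.leaf [nat_lit 83978, nat_lit 4, nat_lit 3, nat_lit 2, nat_lit 5, nat_lit 2, nat_lit 0, nat_lit 4, nat_lit 2, nat_lit 5, nat_lit 4, nat_lit 1, nat_lit 4, nat_lit 2]) (TL.leaf [nat_lit 77827, nat_lit 1, nat_lit 4, nat_lit 1, nat_lit 5, nat_lit 2, nat_lit 4, nat_lit 0, nat_lit 3, nat_lit 4, nat_lit 2, nat_lit 5])) (TL.leaf [nat_lit 86027, nat_lit 5, nat_lit 1, nat_lit 2, nat_lit 4, nat_lit 3, nat_lit 2, nat_lit 0, nat_lit 1, nat_lit 2, nat_lit 0, nat_lit 5, nat_lit 3, nat_lit 4, nat_lit 2, nat_lit 1]))))) (TL.node (TL.node (TL.node (TL.node (TL.node (TL.leaf [nat_lit 1, nat_lit 0, nat_lit 1, nat_lit 0, nat_lit 1]) (TL.leaf [nat_lit 133146, nat_lit 1, nat_lit 3, nat_lit 5, nat_lit 6, nat_lit 3, nat_lit 4, nat_lit 1, nat_lit 5,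 nat_lit 4, nat_lit 0, nat_lit 1, nat_lit 4, nat_lit 2, nat_lit 1, nat_lit 6, nat_lit 5])) (TL.node (TL.leaf [nat_lit 12291, nat_lit 3, nat_lit 2, nat_lit 3, nat_lit 2, nat_lit 3, nat_lit 2, nat_lit 3, nat_lit 2]) (TL.leaf [nat_lit 108547, nat_lit 5, nat_lit 6, nat_lit 0, nat_lit 5, nat_lit 6, nat_lit 0, nat_lit 5, nat_lit 6, nat_lit 0, nat_lit 5, nat_lit 6, nat_lit 0, nat_lit 5, nat_lit 6, nat_lit 0]))) (TL.node (TL.node (TL.leaf [nat_lit 112642, nat_lit 6, nat_lit 3, nat_lit 1, nat_lit 6, nat_lit 3, nat_lit 1, nat_lit 6, nat_lit 3, nat_lit 1]) (TL.leaf [nat_lit 122881, nat_lit 2, nat_lit 5, nat_lit 6, nat_lit 2, nat_lit 5, nat_lit 6, nat_lit 2, nat_lit 5, nat_lit 6])) (TL.node (TL.leaf [nat_lit 43010, nat_lit 3, nat_lit 0, nat_lit 2, nat_lit 3, nat_lit 2, nat_lit 0, nat_lit 4, nat_lit 0, nat_lit 2, nat_lit 0, nat_lit 4]) (TL.leaf [nat_lit 108549, nat_lit 6,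 nat_lit 0, nat_lit 5, nat_lit 6, nat_lit 0, nat_lit 5, nat_lit 6, nat_lit 0, nat_lit 5, nat_lit 6, nat_lit 0, nat_lit 5, nat_lit 6, nat_lit 0, nat_lit 5])))) (TL.node (TL.node (TL.node (TL.leaf [nat_lit 92163, nat_lit 6, nat_lit 2, nat_lit 6, nat_lit 2]) (TL.leaf [nat_lit 122885, nat_lit 6, nat_lit 2, nat_lit 5, nat_lit 6, nat_lit 2, nat_lit 5, nat_lit 6, nat_lit 2, nat_lit 5])) (TL.node (TL.leaf [nat_lit 102401, nat_lit 0, nat_lit 2, nat_lit 6, nat_lit 0, nat_lit 2, nat_lit 6, nat_lit 0, nat_lit 2, nat_lit 6, nat_lit 0, nat_lit 2, nat_lit 6, nat_lit 0, nat_lit 2, nat_lit 6]) (TL.leaf [nat_lit 49153, nat_lit 1, nat_lit 5, nat_lit 1, nat_lit 5, nat_lit 1, nat_lit 5, nat_lit 1, nat_lit 5]))) (TL.node (TL.node (TL.leaf [nat_lit 43013, nat_lit 2, nat_lit 0, nat_lit 4, nat_lit 0, nat_lit 2, nat_lit 3, nat_lit 2, nat_lit 0, nat_lit 3, nat_lit 4, nat_lit 0]) (TL.leaf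 [nat_lit 86039, nat_lit 0, nat_lit 1, nat_lit 2, nat_lit 0, nat_lit 5, nat_lit 3, nat_lit 4, nat_lit 2, nat_lit 1, nat_lit 5, nat_lit 1, nat_lit 2, nat_lit 4, nat_lit 3, nat_lit 2])) (TL.leaf [nat_lit 8195, nat_lit 3, nat_lit 0, nat_lit 3, nat_lit 0])))) (TL.node (TL.node (TL.node (TL.node (TL.leaf [nat_lit 88067, nat_lit 6, nat_lit 0, nat_lit 6, nat_lit 0, nat_lit 6, nat_lit 0]) (TL.leaf [nat_lit 43029, nat_lit 3, nat_lit 4, nat_lit 0, nat_lit 2, nat_lit 0, nat_lit 4, nat_lit 0, nat_lit 2, nat_lit 3, nat_lit 2, nat_lit 0])) (TL.node (TL.leaf [nat_lit 110597, nat_lit 6, nat_lit 1, nat_lit 2, nat_lit 6, nat_lit 1, nat_lit 2, nat_lit 6, nat_lit 1, nat_lit 2, nat_lit 6, nat_lit 1, nat_lit 2, nat_lit 6, nat_lit 1, nat_lit 2]) (TL.leaf [nat_lit 131086, nat_lit 1, nat_lit 6, nat_lit 3, nat_lit 2, nat_lit 3, nat_lit 6, nat_lit 1, nat_lit 2, nat_lit 3, nat_lit 1, nat_lit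 0, nat_lit 2]))) (TL.node (TL.node (TL.leaf [nat_lit 22531, nat_lit 4, nat_lit 0, nat_lit 4, nat_lit 0, nat_lit 4, nat_lit 0]) (TL.leaf [nat_lit 98305, nat_lit 5, nat_lit 6, nat_lit 5, nat_lit 6, nat_lit 5, nat_lit 6, nat_lit 5, nat_lit 6, nat_lit 5, nat_lit 6])) (TL.node (TL.leaf [nat_lit 49155, nat_lit 5, nat_lit 1, nat_lit 5, nat_lit 1, nat_lit 5, nat_lit 1, nat_lit 5, nat_lit 1]) (TL.leaf [nat_lit 100357, nat_lit 6, nat_lit 0, nat_lit 1, nat_lit 6, nat_lit 0, nat_lit 1, nat_lit 6, nat_lit 0, nat_lit 1, nat_lit 6, nat_lit 0, nat_lit 1, nat_lit 6, nat_lit 0, nat_lit 1])))) (TL.node (TL.node (TL.node (TL.leaf [nat_lit 24577, nat_lit 1, nat_lit 4, nat_lit 1, nat_lit 4, nat_lit 1, nat_lit 4]) (TL.leaf [nat_lit 81935, nat_lit 2, nat_lit 4, nat_lit 1, nat_lit 0, nat_lit 4, nat_lit 2, nat_lit 0, nat_lit 5, nat_lit 2, nat_lit 3, nat_lit 0, nat_lit 2, nat_lit 5, nat_lit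 0])) (TL.node (TL.leaf [nat_lit 133145, nat_lit 5, nat_lit 1, nat_lit 4, nat_lit 3, nat_lit 6, nat_lit 5, nat_lit 3, nat_lit 1, nat_lit 5, nat_lit 6, nat_lit 1, nat_lit 2, nat_lit 4, nat_lit 1, nat_lit 0, nat_lit 4]) (TL.leaf [nat_lit 139265, nat_lit 6, nat_lit 0, nat_lit 5, nat_lit 2, nat_lit 5, nat_lit 0, nat_lit 6, nat_lit 2, nat_lit 4, nat_lit 5, nat_lit 1, nat_lit 2, nat_lit 5, nat_lit 3]))) (TL.node (TL.node (TL.leaf [nat_lit 4099, nat_lit 2, nat_lit 1, nat_lit 2, nat_lit 1, nat_lit 2, nat_lit 1]) (TL.leaf [nat_lit 43025, nat_lit 2, nat_lit 0, nat_lit 3, nat_lit 4, nat_lit 0, nat_lit 2, nat_lit 0, nat_lit 4, nat_lit 0, nat_lit 2, nat_lit 3])) (TL.leaf [nat_lit 47107, nat_lit 5, nat_lit 0, nat_lit 5, nat_lit 0]))))))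
def W_t2 : TL := (TL.node (TL.node (TL.node (TL.node (TL.node (TL.node (TL.leaf [nat_lit 96257, nat_lit 4, nat_lit 6, nat_lit 4, nat_lit 6]) (TL.leaf [nat_lit 135175, nat_lit 2, nat_lit 5, nat_lit 6, nat_lit 4, nat_lit 5, nat_lit 2, nat_lit 4, nat_lit 5, nat_lit 2, nat_lit 4, nat_lit 2, nat_lit 6, nat_lit 5, nat_lit 4])) (TL.node (TL.leaf [nat_lit 81943, nat_lit 4, nat_lit 2, nat_lit 0, nat_lit 5, nat_lit 2, nat_lit 3, nat_lit 0, nat_lit 2, nat_lit 5, nat_lit 0, nat_lit 2, nat_lit 4, nat_lit 1, nat_lit 0]) (TL.leaf [nat_lit 83983, nat_lit 3, nat_lit 4, nat_lit 2, nat_lit 4, nat_lit 1, nat_lit 4, nat_lit 5, nat_lit 2, nat_lit 4, nat_lit 0, nat_lit 2, nat_lit 5, nat_lit 2]))) (TL.node (TL.node (TL.leaf [nat_lit 53251, nat_lit 5, nat_lit 3, nat_lit 5, nat_lit 3, nat_lit 5, nat_lit 3]) (TL.leaf [nat_lit 133135, nat_lit 2, nat_lit 4, nat_lit 1, nat_lit 0, nat_lit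 4, nat_lit 5, nat_lit 1, nat_lit 4, nat_lit 3, nat_lit 6, nat_lit 5, nat_lit 3, nat_lit 1, nat_lit 5, nat_lit 6, nat_lit 1])) (TL.node (TL.leaf [nat_lit 137235, nat_lit 2, nat_lit 0, nat_lit 3, nat_lit 6, nat_lit 0, nat_lit 1, nat_lit 2, nat_lit 3, nat_lit 0, nat_lit 6, nat_lit 0, nat_lit 1]) (TL.leaf [nat_lit 45065, nat_lit 4, nat_lit 3, nat_lit 2, nat_lit 1, nat_lit 3, nat_lit 0, nat_lit 2, nat_lit 0, nat_lit 2, nat_lit 1, nat_lit 4, nat_lit 1, nat_lit 2, nat_lit 3])))) (TL.node (TL.node (TL.node (TL.leaf [nat_lit 133148, nat_lit 3, nat_lit 5, nat_lit 6, nat_lit 3, nat_lit 4, nat_lit 1, nat_lit 5, nat_lit 4, nat_lit 0, nat_lit 1, nat_lit 4, nat_lit 2, nat_lit 1, nat_lit 6, nat_lit 5, nat_lit 1]) (TL.leaf [nat_lit 122883, nat_lit 5, nat_lit 6, nat_lit 2, nat_lit 5, nat_lit 6, nat_lit 2, nat_lit 5, nat_lit 6, nat_lit 2])) (TL.node (TL.leaf [nat_lit 114691, nat_lit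 4, nat_lit 6, nat_lit 1, nat_lit 4, nat_lit 6, nat_lit 1, nat_lit 4, nat_lit 6, nat_lit 1, nat_lit 4, nat_lit 6, nat_lit 1, nat_lit 4, nat_lit 6, nat_lit 1]) (TL.leaf [nat_lit 102403, nat_lit 2, nat_lit 6, nat_lit 0, nat_lit 2, nat_lit 6, nat_lit 0, nat_lit 2, nat_lit 6, nat_lit 0, nat_lit 2, nat_lit 6, nat_lit 0, nat_lit 2, nat_lit 6, nat_lit 0]))) (TL.node (TL.node (TL.leaf [nat_lit 98307, nat_lit 6, nat_lit 5, nat_lit 6, nat_lit 5, nat_lit 6, nat_lit 5, nat_lit 6, nat_lit 5, nat_lit 6, nat_lit 5]) (TL.leaf [nat_lit 135184, nat_lit 4, nat_lit 6, nat_lit 5, nat_lit 2, nat_lit 4, nat_lit 5, nat_lit 6, nat_lit 2, nat_lit 4, nat_lit 2, nat_lit 5, nat_lit 4, nat_lit 2, nat_lit 5])) (TL.node (TL.leaf [nat_lit 133151, nat_lit 3, nat_lit 6, nat_lit 5, nat_lit 3, nat_lit 1, nat_lit 5, nat_lit 6, nat_lit 1, nat_lit 2, nat_lit 4, nat_lit 1, nat_lit 0, nat_lit 4, nat_lit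 5, nat_lit 1, nat_lit 4]) (TL.leaf [nat_lit 139291, nat_lit 3, nat_lit 6, nat_lit 0, nat_lit 5, nat_lit 2, nat_lit 5, nat_lit 0, nat_lit 6, nat_lit 2, nat_lit 4, nat_lit 5, nat_lit 1, nat_lit 2, nat_lit 5]))))) (TL.node (TL.node (TL.node (TL.node (TL.leaf [nat_lit 10241, nat_lit 1, nat_lit 3, nat_lit 1, nat_lit 3]) (TL.leaf [nat_lit 2051, nat_lit 2, nat_lit 0, nat_lit 2, nat_lit 0, nat_lit 2, nat_lit 0, nat_lit 2, nat_lit 0, nat_lit 2, nat_lit 0])) (TL.node (TL.leaf [nat_lit 28675, nat_lit 4, nat_lit 3, nat_lit 4, nat_lit 3, nat_lit 4, nat_lit 3]) (TL.leaf [nat_lit 139272, nat_lit 1, nat_lit 5, nat_lit 4, nat_lit 2, nat_lit 6, nat_lit 0, nat_lit 5, nat_lit 2, nat_lit 5, nat_lit 0, nat_lit 6, nat_lit 3, nat_lit 5, nat_lit 2]))) (TL.node (TL.node (TL.leaf [nat_lit 135187, nat_lit 4, nat_lit 5, nat_lit 2, nat_lit 4, nat_lit 2, nat_lit 6, nat_lit 5, nat_lit 4, nat_lit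 2, nat_lit 5, nat_lit 6, nat_lit 4, nat_lit 5, nat_lit 2]) (TL.leaf [nat_lit 12289, nat_lit 2, nat_lit 3, nat_lit 2, nat_lit 3, nat_lit 2, nat_lit 3, nat_lit 2, nat_lit 3])) (TL.node (TL.leaf [nat_lit 53249, nat_lit 3, nat_lit 5, nat_lit 3, nat_lit 5, nat_lit 3, nat_lit 5]) (TL.leaf [nat_lit 18437, nat_lit 3, nat_lit 1, nat_lit 2, nat_lit 3, nat_lit 1, nat_lit 2, nat_lit 3, nat_lit 1, nat_lit 2])))) (TL.node (TL.node (TL.node (TL.leaf [nat_lit 4097, nat_lit 1, nat_lit 2, nat_lit 1, nat_lit 2, nat_lit 1, nat_lit 2]) (TL.leaf [nat_lit 79887, nat_lit 2, nat_lit 0, nat_lit 1, nat_lit 2, nat_lit 0, nat_lit 5, nat_lit 2, nat_lit 1, nat_lit 0, nat_lit 2, nat_lit 5, nat_lit 0])) (TL.node (TL.leaf [nat_lit 43009, nat_lit 4, nat_lit 0, nat_lit 2, nat_lit 0, nat_lit 4, nat_lit 0, nat_lit 2, nat_lit 3, nat_lit 2, nat_lit 0, nat_lit 3]) (TL.leaf [nat_lit 126977, nat_lit 3,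 nat_lit 5, nat_lit 6, nat_lit 3, nat_lit 5, nat_lit 6, nat_lit 3, nat_lit 5, nat_lit 6, nat_lit 3, nat_lit 5, nat_lit 6, nat_lit 3, nat_lit 5, nat_lit 6, nat_lit 3, nat_lit 5, nat_lit 6, nat_lit 3, nat_lit 5, nat_lit 6, nat_lit 3, nat_lit 5, nat_lit 6]))) (TL.node (TL.node (TL.leaf [nat_lit 45057, nat_lit 4, nat_lit 1, nat_lit 2, nat_lit 3, nat_lit 4, nat_lit 3, nat_lit 2, nat_lit 1, nat_lit 3, nat_lit 0, nat_lit 2, nat_lit 0, nat_lit 2, nat_lit 1]) (TL.leaf [nat_lit 77837, nat_lit 4, nat_lit 0, nat_lit 3, nat_lit 4, nat_lit 2, nat_lit 5, nat_lit 1, nat_lit 4, nat_lit 1, nat_lit 5, nat_lit 2])) (TL.leaf [nat_lit 10243, nat_lit 3, nat_lit 1, nat_lit 3, nat_lit 1]))))) (TL.node (TL.node (TL.node (TL.node (TL.node (TL.leaf [nat_lit 8193, nat_lit 0, nat_lit 3, nat_lit 0, nat_lit 3]) (TL.leaf [nat_lit 122886, nat_lit 2, nat_lit 6, nat_lit 5, nat_lit 2, nat_lit 6,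 nat_lit 5, nat_lit 2, nat_lit 6, nat_lit 5])) (TL.node (TL.leaf [nat_lit 137228, nat_lit 6, nat_lit 0, nat_lit 3, nat_lit 2, nat_lit 1, nat_lit 0, nat_lit 6, nat_lit 3, nat_lit 0, nat_lit 2, nat_lit 1, nat_lit 0]) (TL.leaf [nat_lit 30725, nat_lit 4, nat_lit 0, nat_lit 1, nat_lit 4, nat_lit 0, nat_lit 1, nat_lit 4, nat_lit 0, nat_lit 1, nat_lit 4, nat_lit 0, nat_lit 1]))) (TL.node (TL.node (TL.leaf [nat_lit 122882, nat_lit 6, nat_lit 5, nat_lit 2, nat_lit 6, nat_lit 5, nat_lit 2, nat_lit 6, nat_lit 5, nat_lit 2]) (TL.leaf [nat_lit 63490, nat_lit 5, nat_lit 4, nat_lit 0, nat_lit 5, nat_lit 4, nat_lit 0, nat_lit 5, nat_lit 4, nat_lit 0])) (TL.node (TL.leaf [nat_lit 43023, nat_lit 3, nat_lit 2, nat_lit 0, nat_lit 3, nat_lit 4, nat_lit 0, nat_lit 2, nat_lit 0, nat_lit 4, nat_lit 0, nat_lit 2]) (TL.leaf [nat_lit 112644, nat_lit 3, nat_lit 1, nat_lit 6, nat_lit 3, nat_lit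 1, nat_lit 6, nat_lit 3, nat_lit 1, nat_lit 6])))) (TL.node (TL.node (TL.node (TL.leaf [nat_lit 96259, nat_lit 6, nat_lit 4, nat_lit 6, nat_lit 4]) (TL.leaf [nat_lit 86025, nat_lit 1, nat_lit 5, nat_lit 1, nat_lit 2, nat_lit 4, nat_lit 3, nat_lit 2, nat_lit 0, nat_lit 1, nat_lit 2, nat_lit 0, nat_lit 5, nat_lit 3, nat_lit 4, nat_lit 2])) (TL.node (TL.leaf [nat_lit 3, nat_lit 1, nat_lit 0, nat_lit 1, nat_lit 0]) (TL.leaf [nat_lit 79879, nat_lit 0, nat_lit 2, nat_lit 5, nat_lit 0, nat_lit 2, nat_lit 0, nat_lit 1, nat_lit 2, nat_lit 0, nat_lit 5, nat_lit 2, nat_lit 1]))) (TL.node (TL.node (TL.leaf [nat_lit 79894, nat_lit 2, nat_lit 5, nat_lit 0, nat_lit 2, nat_lit 1, nat_lit 0, nat_lit 2, nat_lit 0, nat_lit 5, nat_lit 2, nat_lit 0, nat_lit 1]) (TL.leaf [nat_lit 110593, nat_lit 1, nat_lit 2, nat_lit 6, nat_lit 1, nat_lit 2, nat_lit 6, nat_lit 1, nat_lit 2, nat_lit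 6, nat_lit 1, nat_lit 2, nat_lit 6, nat_lit 1, nat_lit 2, nat_lit 6])) (TL.leaf [nat_lit 45075, nat_lit 0, nat_lit 2, nat_lit 0, nat_lit 2, nat_lit 1, nat_lit 4, nat_lit 1, nat_lit 2, nat_lit 3, nat_lit 4, nat_lit 3, nat_lit 2, nat_lit 1, nat_lit 3])))) (TL.node (TL.node (TL.node (TL.node (TL.leaf [nat_lit 131077, nat_lit 2, nat_lit 3, nat_lit 6, nat_lit 1, nat_lit 2, nat_lit 0, nat_lit 1, nat_lit 3, nat_lit 2, nat_lit 1, nat_lit 6, nat_lit 3]) (TL.leaf [nat_lit 79877, nat_lit 1, nat_lit 0, nat_lit 2, nat_lit 5, nat_lit 0, nat_lit 2, nat_lit 0, nat_lit 1, nat_lit 2, nat_lit 0, nat_lit 5, nat_lit 2])) (TL.node (TL.leaf [nat_lit 88065, nat_lit 0, nat_lit 6, nat_lit 0, nat_lit 6, nat_lit 0, nat_lit 6]) (TL.leaf [nat_lit 137234, nat_lit 2, nat_lit 1, nat_lit 0, nat_lit 6, nat_lit 3, nat_lit 0, nat_lit 2, nat_lit 1, nat_lit 0, nat_lit 6, nat_lit 0, nat_lit 3]))) (TL.node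 (TL.node (TL.leaf [nat_lit 55297, nat_lit 4, nat_lit 5, nat_lit 4, nat_lit 5, nat_lit 4, nat_lit 5, nat_lit 4, nat_lit 5]) (TL.leaf [nat_lit 59397, nat_lit 5, nat_lit 0, nat_lit 2, nat_lit 5, nat_lit 0, nat_lit 2, nat_lit 5, nat_lit 0, nat_lit 2, nat_lit 5, nat_lit 0, nat_lit 2])) (TL.node (TL.leaf [nat_lit 45071, nat_lit 1, nat_lit 3, nat_lit 0, nat_lit 2, nat_lit 0, nat_lit 2, nat_lit 1, nat_lit 4, nat_lit 1, nat_lit 2, nat_lit 3, nat_lit 4, nat_lit 3, nat_lit 2]) (TL.leaf [nat_lit 83973, nat_lit 4, nat_lit 0, nat_lit 2, nat_lit 5, nat_lit 2, nat_lit 3, nat_lit 4, nat_lit 2, nat_lit 4, nat_lit 1, nat_lit 4, nat_lit 5, nat_lit 2])))) (TL.node (TL.node (TL.node (TL.leaf [nat_lit 28673, nat_lit 3, nat_lit 4, nat_lit 3, nat_lit 4, nat_lit 3, nat_lit 4]) (TL.leaf [nat_lit 79891, nat_lit 1, nat_lit 2, nat_lit 0, nat_lit 5, nat_lit 2, nat_lit 1, nat_lit 0, nat_lit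 2, nat_lit 5, nat_lit 0, nat_lit 2, nat_lit 0])) (TL.node (TL.leaf [nat_lit 55299, nat_lit 5, nat_lit 4, nat_lit 5, nat_lit 4, nat_lit 5, nat_lit 4, nat_lit 5, nat_lit 4]) (TL.leaf [nat_lit 90113, nat_lit 1, nat_lit 6, nat_lit 1, nat_lit 6, nat_lit 1, nat_lit 6, nat_lit 1, nat_lit 6, nat_lit 1, nat_lit 6]))) (TL.node (TL.node (TL.leaf [nat_lit 26625, nat_lit 2, nat_lit 4, nat_lit 2, nat_lit 4, nat_lit 2, nat_lit 4, nat_lit 2, nat_lit 4]) (TL.leaf [nat_lit 118788, nat_lit 3, nat_lit 2, nat_lit 6, nat_lit 3, nat_lit 2, nat_lit 6, nat_lit 3, nat_lit 2, nat_lit 6, nat_lit 3, nat_lit 2, nat_lit 6, nat_lit 3, nat_lit 2, nat_lit 6])) (TL.leaf [nat_lit 112645, nat_lit 6, nat_lit 1, nat_lit 3, nat_lit 6, nat_lit 1, nat_lit 3, nat_lit 6, nat_lit 1, nat_lit 3]))))))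
def W_t : TL := (TL.node W_t1 W_t2)
noncomputable def W (i : ℕ) : List ℕ := TL.get W_t i
def WA_t : TL := (TL.leaf [nat_lit 0])
noncomputable def WA (i : ℕ) : List ℕ := TL.get WA_t i
noncomputable def row : ℕ → ℕ := hRow (nat_lit 99) (nat_lit 7) (nat_lit 6) (nat_lit 128) (nat_lit 128) (nat_lit 16384) (nat_lit 2048) (nat_lit 2048) (nat_lit 0) E X Pa (fun j => j) (wfun (nat_lit 122) W_t)
noncomputable def aux : ℕ → ℕ := hAux (nat_lit 100) (nat_lit 7) (nat_lit 128) (nat_lit 16384) (nat_lit 2048) (nat_lit 2) (nat_lit 2) (nat_lit 2048) (nat_lit 0) E X J Pa (fun j => j) WA_t.get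
theorem r0 : Nat.beq (rng row (nat_lit 0) (nat_lit 100)) (nat_lit 0) = true := by decide +kernel
theorem rows : ∀ i < 100, row i = 0 := by
  have h := zero_lt_zero row
  have h := zero_lt_add (a := (nat_lit 0)) (n := (nat_lit 100)) (b := (nat_lit 100)) h r0 rfl
  exact h
theorem auxs : ∀ i < 0, aux i = 0 := by
  have h := zero_lt_zero aux
  exact h
theorem closes.{u} : ClosesT.{u} (fun j => j) rels 7 6 100 T :=
  hc_closes (N1 := (nat_lit 99)) rfl T_eq (by decide +kernel) rows auxs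
theorem T_inv : ∀ c < 100, ∀ j < 7, T j c < 100 ∧ T j (T j c) = c := 
  hc_inv (inv := (fun j => j)) (N1 := (nat_lit 99)) rfl T_eq rows
end L6

def rels : List (List ℕ) := [[nat_lit 0, nat_lit 1, nat_lit 0, nat_lit 1], [nat_lit 0, nat_lit 2, nat_lit 0, nat_lit 2, nat_lit 0, nat_lit 2, nat_lit 0, nat_lit 2, nat_lit 0, nat_lit 2], [nat_lit 1, nat_lit 2, nat_lit 1, nat_lit 2, nat_lit 1, nat_lit 2], [nat_lit 0, nat_lit 1, nat_lit 2, nat_lit 0, nat_lit 1, nat_lit 2, nat_lit 0, nat_lit 1, nat_lit 2, nat_lit 0, nat_lit 1, nat_lit 2, nat_lit 0, nat_lit 1, nat_lit 2], [nat_lit 0, nat_lit 3, nat_lit 0, nat_lit 3], [nat_lit 1, nat_lit 3, nat_lit 1, nat_lit 3], [nat_lit 2, nat_lit 3, nat_lit 2, nat_lit 3, nat_lit 2, nat_lit 3, nat_lit 2, nat_lit 3], [nat_lit 0, nat_lit 1, nat_lit 3, nat_lit 0, nat_lit 1, nat_lit 3], [nat_lit 0, nat_lit 2, nat_lit 3, nat_lit 0, nat_lit 2,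 nat_lit 3, nat_lit 0, nat_lit 2, nat_lit 3, nat_lit 0, nat_lit 2, nat_lit 3, nat_lit 0, nat_lit 2, nat_lit 3], [nat_lit 1, nat_lit 2, nat_lit 3, nat_lit 1, nat_lit 2, nat_lit 3, nat_lit 1, nat_lit 2, nat_lit 3], [nat_lit 3, nat_lit 2, nat_lit 0, nat_lit 2, nat_lit 0, nat_lit 1, nat_lit 3, nat_lit 2, nat_lit 0, nat_lit 2, nat_lit 3, nat_lit 0, nat_lit 1, nat_lit 2, nat_lit 0, nat_lit 2, nat_lit 1, nat_lit 0], [nat_lit 0, nat_lit 4, nat_lit 0, nat_lit 4, nat_lit 0, nat_lit 4], [nat_lit 1, nat_lit 4, nat_lit 1, nat_lit 4, nat_lit 1, nat_lit 4], [nat_lit 2, nat_lit 4, nat_lit 2, nat_lit 4, nat_lit 2, nat_lit 4, nat_lit 2, nat_lit 4], [nat_lit 3, nat_lit 4, nat_lit 3, nat_lit 4, nat_lit 3, nat_lit 4], [nat_lit 0, nat_lit 1, nat_lit 4, nat_lit 0, nat_lit 1, nat_lit 4, nat_lit 0, nat_lit 1, nat_lit 4, nat_lit 0, nat_lit 1, nat_lit 4], [nat_lit 0, nat_lit 2, nat_lit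 4, nat_lit 0, nat_lit 2, nat_lit 4, nat_lit 0, nat_lit 2, nat_lit 4, nat_lit 0, nat_lit 2, nat_lit 4, nat_lit 0, nat_lit 2, nat_lit 4, nat_lit 0, nat_lit 2, nat_lit 4, nat_lit 0, nat_lit 2, nat_lit 4], [nat_lit 0, nat_lit 3, nat_lit 4, nat_lit 0, nat_lit 3, nat_lit 4, nat_lit 0, nat_lit 3, nat_lit 4, nat_lit 0, nat_lit 3, nat_lit 4], [nat_lit 1, nat_lit 2, nat_lit 4, nat_lit 1, nat_lit 2, nat_lit 4, nat_lit 1, nat_lit 2, nat_lit 4, nat_lit 1, nat_lit 2, nat_lit 4, nat_lit 1, nat_lit 2, nat_lit 4], [nat_lit 1, nat_lit 3, nat_lit 4, nat_lit 1, nat_lit 3, nat_lit 4, nat_lit 1, nat_lit 3, nat_lit 4, nat_lit 1, nat_lit 3, nat_lit 4], [nat_lit 2, nat_lit 3, nat_lit 4, nat_lit 2, nat_lit 3, nat_lit 4, nat_lit 2, nat_lit 3, nat_lit 4, nat_lit 2, nat_lit 3, nat_lit 4, nat_lit 2, nat_lit 3, nat_lit 4, nat_lit 2, nat_lit 3, nat_lit 4, nat_lit 2, nat_lit 3, nat_lit 4], [nat_lit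 4, nat_lit 0, nat_lit 2, nat_lit 0, nat_lit 4, nat_lit 0, nat_lit 2, nat_lit 3, nat_lit 2, nat_lit 0, nat_lit 3], [nat_lit 4, nat_lit 1, nat_lit 2, nat_lit 3, nat_lit 4, nat_lit 3, nat_lit 2, nat_lit 1, nat_lit 3, nat_lit 0, nat_lit 2, nat_lit 0, nat_lit 2, nat_lit 1], [nat_lit 0, nat_lit 5, nat_lit 0, nat_lit 5], [nat_lit 1, nat_lit 5, nat_lit 1, nat_lit 5, nat_lit 1, nat_lit 5, nat_lit 1, nat_lit 5], [nat_lit 2, nat_lit 5, nat_lit 2, nat_lit 5, nat_lit 2, nat_lit 5, nat_lit 2, nat_lit 5, nat_lit 2, nat_lit 5], [nat_lit 3, nat_lit 5, nat_lit 3, nat_lit 5, nat_lit 3, nat_lit 5], [nat_lit 4, nat_lit 5, nat_lit 4, nat_lit 5, nat_lit 4, nat_lit 5, nat_lit 4, nat_lit 5], [nat_lit 0, nat_lit 1, nat_lit 5, nat_lit 0, nat_lit 1, nat_lit 5, nat_lit 0, nat_lit 1, nat_lit 5, nat_lit 0, nat_lit 1, nat_lit 5], [nat_lit 0, nat_lit 2, nat_lit 5, nat_lit 0, nat_lit 2, nat_lit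 5, nat_lit 0, nat_lit 2, nat_lit 5, nat_lit 0, nat_lit 2, nat_lit 5], [nat_lit 0, nat_lit 3, nat_lit 5, nat_lit 0, nat_lit 3, nat_lit 5, nat_lit 0, nat_lit 3, nat_lit 5, nat_lit 0, nat_lit 3, nat_lit 5, nat_lit 0, nat_lit 3, nat_lit 5, nat_lit 0, nat_lit 3, nat_lit 5], [nat_lit 0, nat_lit 4, nat_lit 5, nat_lit 0, nat_lit 4, nat_lit 5, nat_lit 0, nat_lit 4, nat_lit 5], [nat_lit 1, nat_lit 2, nat_lit 5, nat_lit 1, nat_lit 2, nat_lit 5, nat_lit 1, nat_lit 2, nat_lit 5, nat_lit 1, nat_lit 2, nat_lit 5, nat_lit 1, nat_lit 2, nat_lit 5], [nat_lit 1, nat_lit 3, nat_lit 5, nat_lit 1, nat_lit 3, nat_lit 5, nat_lit 1, nat_lit 3, nat_lit 5, nat_lit 1, nat_lit 3, nat_lit 5, nat_lit 1, nat_lit 3, nat_lit 5, nat_lit 1, nat_lit 3, nat_lit 5], [nat_lit 1, nat_lit 4, nat_lit 5, nat_lit 1, nat_lit 4, nat_lit 5, nat_lit 1, nat_lit 4, nat_lit 5, nat_lit 1, nat_lit 4, nat_lit 5,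 nat_lit 1, nat_lit 4, nat_lit 5, nat_lit 1, nat_lit 4, nat_lit 5, nat_lit 1, nat_lit 4, nat_lit 5], [nat_lit 2, nat_lit 3, nat_lit 5, nat_lit 2, nat_lit 3, nat_lit 5, nat_lit 2, nat_lit 3, nat_lit 5, nat_lit 2, nat_lit 3, nat_lit 5], [nat_lit 2, nat_lit 4, nat_lit 5, nat_lit 2, nat_lit 4, nat_lit 5, nat_lit 2, nat_lit 4, nat_lit 5, nat_lit 2, nat_lit 4, nat_lit 5, nat_lit 2, nat_lit 4, nat_lit 5, nat_lit 2, nat_lit 4, nat_lit 5], [nat_lit 3, nat_lit 4, nat_lit 5, nat_lit 3, nat_lit 4, nat_lit 5, nat_lit 3, nat_lit 4, nat_lit 5, nat_lit 3, nat_lit 4, nat_lit 5, nat_lit 3, nat_lit 4, nat_lit 5], [nat_lit 5, nat_lit 1, nat_lit 4, nat_lit 1, nat_lit 5, nat_lit 2, nat_lit 4, nat_lit 0, nat_lit 3, nat_lit 4, nat_lit 2], [nat_lit 5, nat_lit 2, nat_lit 1, nat_lit 0, nat_lit 2, nat_lit 5, nat_lit 0, nat_lit 2, nat_lit 0, nat_lit 1, nat_lit 2, nat_lit 0], [nat_lit 5, nat_lit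 2, nat_lit 3, nat_lit 0, nat_lit 2, nat_lit 5, nat_lit 0, nat_lit 2, nat_lit 4, nat_lit 1, nat_lit 0, nat_lit 4, nat_lit 2, nat_lit 0], [nat_lit 5, nat_lit 2, nat_lit 4, nat_lit 0, nat_lit 2, nat_lit 5, nat_lit 2, nat_lit 3, nat_lit 4, nat_lit 2, nat_lit 4, nat_lit 1, nat_lit 4], [nat_lit 5, nat_lit 3, nat_lit 4, nat_lit 2, nat_lit 1, nat_lit 5, nat_lit 1, nat_lit 2, nat_lit 4, nat_lit 3, nat_lit 2, nat_lit 0, nat_lit 1, nat_lit 2, nat_lit 0], [nat_lit 0, nat_lit 6, nat_lit 0, nat_lit 6, nat_lit 0, nat_lit 6], [nat_lit 1, nat_lit 6, nat_lit 1, nat_lit 6, nat_lit 1, nat_lit 6, nat_lit 1, nat_lit 6, nat_lit 1, nat_lit 6], [nat_lit 2, nat_lit 6, nat_lit 2, nat_lit 6], [nat_lit 3, nat_lit 6, nat_lit 3, nat_lit 6, nat_lit 3, nat_lit 6, nat_lit 3, nat_lit 6, nat_lit 3, nat_lit 6], [nat_lit 4, nat_lit 6, nat_lit 4, nat_lit 6], [nat_lit 5, nat_lit 6, nat_lit 5, nat_lit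 6, nat_lit 5, nat_lit 6, nat_lit 5, nat_lit 6, nat_lit 5, nat_lit 6], [nat_lit 0, nat_lit 1, nat_lit 6, nat_lit 0, nat_lit 1, nat_lit 6, nat_lit 0, nat_lit 1, nat_lit 6, nat_lit 0, nat_lit 1, nat_lit 6, nat_lit 0, nat_lit 1, nat_lit 6], [nat_lit 0, nat_lit 2, nat_lit 6, nat_lit 0, nat_lit 2, nat_lit 6, nat_lit 0, nat_lit 2, nat_lit 6, nat_lit 0, nat_lit 2, nat_lit 6, nat_lit 0, nat_lit 2, nat_lit 6], [nat_lit 0, nat_lit 3, nat_lit 6, nat_lit 0, nat_lit 3, nat_lit 6, nat_lit 0, nat_lit 3, nat_lit 6, nat_lit 0, nat_lit 3, nat_lit 6, nat_lit 0, nat_lit 3, nat_lit 6], [nat_lit 0, nat_lit 4, nat_lit 6, nat_lit 0, nat_lit 4, nat_lit 6, nat_lit 0, nat_lit 4, nat_lit 6, nat_lit 0, nat_lit 4, nat_lit 6], [nat_lit 0, nat_lit 5, nat_lit 6, nat_lit 0, nat_lit 5, nat_lit 6, nat_lit 0, nat_lit 5, nat_lit 6, nat_lit 0, nat_lit 5, nat_lit 6, nat_lit 0, nat_lit 5, nat_lit 6],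 [nat_lit 1, nat_lit 2, nat_lit 6, nat_lit 1, nat_lit 2, nat_lit 6, nat_lit 1, nat_lit 2, nat_lit 6, nat_lit 1, nat_lit 2, nat_lit 6, nat_lit 1, nat_lit 2, nat_lit 6], [nat_lit 1, nat_lit 3, nat_lit 6, nat_lit 1, nat_lit 3, nat_lit 6, nat_lit 1, nat_lit 3, nat_lit 6], [nat_lit 1, nat_lit 4, nat_lit 6, nat_lit 1, nat_lit 4, nat_lit 6, nat_lit 1, nat_lit 4, nat_lit 6, nat_lit 1, nat_lit 4, nat_lit 6, nat_lit 1, nat_lit 4, nat_lit 6], [nat_lit 1, nat_lit 5, nat_lit 6, nat_lit 1, nat_lit 5, nat_lit 6, nat_lit 1, nat_lit 5, nat_lit 6, nat_lit 1, nat_lit 5, nat_lit 6, nat_lit 1, nat_lit 5, nat_lit 6, nat_lit 1, nat_lit 5, nat_lit 6, nat_lit 1, nat_lit 5, nat_lit 6], [nat_lit 2, nat_lit 3, nat_lit 6, nat_lit 2, nat_lit 3, nat_lit 6, nat_lit 2, nat_lit 3, nat_lit 6, nat_lit 2, nat_lit 3, nat_lit 6, nat_lit 2, nat_lit 3, nat_lit 6], [nat_lit 2, nat_lit 4, nat_lit 6, nat_lit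 2, nat_lit 4, nat_lit 6, nat_lit 2, nat_lit 4, nat_lit 6, nat_lit 2, nat_lit 4, nat_lit 6], [nat_lit 2, nat_lit 5, nat_lit 6, nat_lit 2, nat_lit 5, nat_lit 6, nat_lit 2, nat_lit 5, nat_lit 6], [nat_lit 3, nat_lit 4, nat_lit 6, nat_lit 3, nat_lit 4, nat_lit 6, nat_lit 3, nat_lit 4, nat_lit 6, nat_lit 3, nat_lit 4, nat_lit 6, nat_lit 3, nat_lit 4, nat_lit 6], [nat_lit 3, nat_lit 5, nat_lit 6, nat_lit 3, nat_lit 5, nat_lit 6, nat_lit 3, nat_lit 5, nat_lit 6, nat_lit 3, nat_lit 5, nat_lit 6, nat_lit 3, nat_lit 5, nat_lit 6, nat_lit 3, nat_lit 5, nat_lit 6, nat_lit 3, nat_lit 5, nat_lit 6, nat_lit 3, nat_lit 5, nat_lit 6], [nat_lit 4, nat_lit 5, nat_lit 6, nat_lit 4, nat_lit 5, nat_lit 6, nat_lit 4, nat_lit 5, nat_lit 6, nat_lit 4, nat_lit 5, nat_lit 6, nat_lit 4, nat_lit 5, nat_lit 6, nat_lit 4, nat_lit 5, nat_lit 6], [nat_lit 6, nat_lit 3, nat_lit 2, nat_lit 3,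 nat_lit 6, nat_lit 1, nat_lit 2, nat_lit 0, nat_lit 1, nat_lit 3, nat_lit 2, nat_lit 1], [nat_lit 6, nat_lit 5, nat_lit 3, nat_lit 1, nat_lit 5, nat_lit 6, nat_lit 1, nat_lit 2, nat_lit 4, nat_lit 1, nat_lit 0, nat_lit 4, nat_lit 5, nat_lit 1, nat_lit 4, nat_lit 3], [nat_lit 6, nat_lit 5, nat_lit 4, nat_lit 2, nat_lit 5, nat_lit 6, nat_lit 4, nat_lit 5, nat_lit 2, nat_lit 4, nat_lit 5, nat_lit 2, nat_lit 4, nat_lit 2], [nat_lit 6, nat_lit 0, nat_lit 1, nat_lit 2, nat_lit 3, nat_lit 0, nat_lit 6, nat_lit 0, nat_lit 1, nat_lit 2, nat_lit 0, nat_lit 3], [nat_lit 6, nat_lit 0, nat_lit 5, nat_lit 2, nat_lit 5, nat_lit 0, nat_lit 6, nat_lit 2, nat_lit 4, nat_lit 5, nat_lit 1, nat_lit 2, nat_lit 5, nat_lit 3]]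
theorem ub2 {Γ : Type} [Group Γ] {g : ℕ → Γ} (h1 : InvOK g (fun j => j) 7) (h2 : ∀ w ∈ rels, ev g w = 1) : CardLE (gen g 2) 4 :=
  tw h1 h2 L1.closes (by decide +kernel) (cardLE_gen_zero g)
theorem ub3 {Γ : Type} [Group Γ] {g : ℕ → Γ} (h1 : InvOK g (fun j => j) 7) (h2 : ∀ w ∈ rels, ev g w = 1) : CardLE (gen g 3) 60 :=
  tw h1 h2 L2.closes (by decide +kernel) (ub2 h1 h2)
theorem ub4 {Γ : Type} [Group Γ] {g : ℕ → Γ} (h1 : InvOK g (fun j => j) 7) (h2 : ∀ w ∈ rels, ev g w = 1) : CardLE (gen g 4) 960 :=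
  tw h1 h2 L3.closes (by decide +kernel) (ub3 h1 h2)
theorem ub5 {Γ : Type} [Group Γ] {g : ℕ → Γ} (h1 : InvOK g (fun j => j) 7) (h2 : ∀ w ∈ rels, ev g w = 1) : CardLE (gen g 5) 20160 :=
  tw h1 h2 L4.closes (by decide +kernel) (ub4 h1 h2)
theorem ub6 {Γ : Type} [Group Γ] {g : ℕ → Γ} (h1 : InvOK g (fun j => j) 7) (h2 : ∀ w ∈ rels, ev g w = 1) : CardLE (gen g 6) 443520 :=
  tw h1 h2 L5.closes (by decide +kernel) (ub5 h1 h2)
theorem ub7 {Γ : Type} [Group Γ] {g : ℕ → Γ} (h1 : InvOK g (fun j => j) 7) (h2 : ∀ w ∈ rels, ev g w = 1) : CardLE (gen g 7) 44352000 :=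
  tw h1 h2 L6.closes (by decide +kernel) (ub6 h1 h2)

end Cfsg.Agent.Ct.HSp
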